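import Cfsg.Agent.Lib.PGUThree.Model

/-!
The properties of the centraliser of an involution in `PGU₃(q) = GU₃(q) / Z`, `q` even.
-/

set_option autoImplicit false
set_option linter.unusedSectionVars false

noncomputable section

namespace CfsgLib.PGUThree

open Matrix CfsgLib.AutPSU CfsgLib.InvCharThree

variable {F : Type*} [Field F] [Fintype F] {q : ℕ} (hF : Fintype.card F = q ^ 2) (he : Even q)
  (fr : Frame q 1 F)
include hF

theorem dd_ne_zero (g : stabU fr) : dd fr g ≠ 0 := fun e => by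
  have h := (mulVec_ee hF fr g).2.2.1
  rw [e, zero_mul] at h
  exact zero_ne_one h

/-- The eigenvalue homomorphism. -/
def ddHom : stabU fr →* Fˣ where
  toFun g := Units.mk0 (dd fr g) (dd_ne_zero hF fr g)
  map_one' := Units.ext (coords_one hF fr).1
  map_mul' g g' := Units.ext (coords_mul hF fr g g').1

theorem mem_ker_ddHom {g : stabU fr} : g ∈ (ddHom hF fr).ker ↔ dd fr g = 1 := by
  rw [MonoidHom.mem_ker, Units.ext_iff]
  rfl

theorem norm_eq (a : F) : a * tau hF a = a ^ (q + 1) := by rw [tau_apply, pow_succ']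

include he

theorem neg_eq (x : F) : -x = x := by
  have h2 := two_eq_zero hF he
  linear_combination (-x) * h2

theorem rel_iff (a z : F) :
    z + z ^ q = a ^ (q + 1) ↔ z + tau hF z + a * tau hF a = 0 := by
  rw [norm_eq hF, tau_apply]
  have h2 := two_eq_zero hF he
  constructor
  · intro h
    rw [h]
    linear_combination (a ^ (q + 1)) * h2
  · intro h
    linear_combination h - a ^ (q + 1) * h2

theorem card_ker_ddHom : Nat.card (ddHom hF fr).ker = q ^ 3 := by
  rw [← natCard_herm hF he, Nat.card_congr hermEquiv]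
  refine Nat.card_eq_of_bijective
    (fun g => ⟨aa fr g.1, zz fr g.1, (rel_iff hF he _ _).2 (mulVec_ee hF fr g.1).2.2.2⟩) ⟨?_, ?_⟩
  · rintro ⟨g, hg⟩ ⟨g', hg'⟩ e
    have e1 := congrArg (fun s : Σ a : F, {b : F // b + b ^ q = a ^ (q + 1)} => s.1) e
    have e2 := congrArg (fun s : Σ a : F, {b : F // b + b ^ q = a ^ (q + 1)} => (s.2 : F)) e
    exact Subtype.ext (coords_ext hF fr
      (((mem_ker_ddHom hF fr).1 hg).trans ((mem_ker_ddHom hF fr).1 hg').symm) e1 e2)
  · rintro ⟨a, z, hz⟩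
    obtain ⟨g, h1, rfl, rfl⟩ := exists_coords hF fr (d := 1) (by rw [map_one, mul_one])
      ((rel_iff hF he a z).1 hz)
    exact ⟨⟨g, (mem_ker_ddHom hF fr).2 h1⟩, rfl⟩

theorem range_ddHom : (ddHom hF fr).range = normOne F q := by
  refine le_antisymm ?_ fun u hu => ?_
  · rintro _ ⟨g, rfl⟩
    exact (mem_normOne_iff hF).2 (mulVec_ee hF fr g).2.2.1
  · obtain ⟨g, h1, -, -⟩ := exists_coords hF fr (d := (u : F)) (a := 0) (z := 0)
      ((mem_normOne_iff hF).1 hu) (by simp)
    exact ⟨g, Units.ext h1⟩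

theorem card_stabU : Nat.card (stabU fr) = q ^ 3 * (q + 1) := by
  rw [← (ddHom hF fr).ker.card_mul_index, Subgroup.index_ker, card_ker_ddHom hF he fr,
    range_ddHom hF he fr, CfsgLib.ClassicalGroups.card_norm_one_units hF]

theorem odd_norm_one {d : F} (hd : d * d = 1) : d = 1 := by
  have h2 := two_eq_zero hF he
  have h : (d + 1) * (d + 1) = 0 := by linear_combination hd + (d + 1) * h2
  have := mul_self_eq_zero.1 h
  linear_combination this - h2

theorem mul_self_iff (g : stabU fr) :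
    g * g = 1 ↔ dd fr g = 1 ∧ aa fr g = 0 := by
  obtain ⟨h1, h2, h3⟩ := coords_mul hF fr g g
  obtain ⟨o1, o2, o3⟩ := coords_one hF fr
  have h20 := two_eq_zero hF he
  constructor
  · intro h
    rw [h, o1] at h1
    rw [h, o3] at h3
    have hd := odd_norm_one hF he h1.symm
    refine ⟨hd, ?_⟩
    rw [hd, mul_one] at h3
    have h4 : aa fr g * tau hF (aa fr g) = 0 := by linear_combination h3 + zz fr g * h20
    rcases mul_eq_zero.1 h4 with h5 | h5
    · exact h5
    · simpa using h5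
  · rintro ⟨hd, ha⟩
    refine coords_ext hF fr ?_ ?_ ?_
    · rw [h1, o1, hd, mul_one]
    · rw [h2, o2, ha]; ring
    · rw [h3, o3, ha]
      linear_combination zz fr g * h20

theorem card_inv_stabU : Nat.card {g : stabU fr // g * g = 1} = q := by
  have h0 : (0 : F) ^ q = 0 := zero_pow (by have := CfsgLib.ClassicalGroups.herm_two_le hF; omega)
  refine Eq.trans ?_ (card_trace_fibre hF he (c := (0 : F)) h0)
  refine Nat.card_eq_of_bijective (fun g => ⟨zz fr g.1, ?_⟩) ⟨?_, ?_⟩
  · have h := (mulVec_ee hF fr g.1).2.2.2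
    rw [((mul_self_iff hF he fr g.1).1 g.2).2, zero_mul, add_zero, tau_apply] at h
    exact h
  · rintro ⟨g, hg⟩ ⟨g', hg'⟩ e
    obtain ⟨a1, a2⟩ := (mul_self_iff hF he fr g).1 hg
    obtain ⟨b1, b2⟩ := (mul_self_iff hF he fr g').1 hg'
    exact Subtype.ext (coords_ext hF fr (a1.trans b1.symm) (a2.trans b2.symm) (congrArg Subtype.val e))
  · rintro ⟨z, hz⟩
    obtain ⟨g, h1, h2, h3⟩ := exists_coords hF fr (d := 1) (a := 0) (z := z) (by rw [map_one, mul_one])
      (by rw [zero_mul, add_zero, tau_apply]; exact hz)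
    exact ⟨⟨g, (mul_self_iff hF he fr g).2 ⟨h1, h2⟩⟩, Subtype.ext h3⟩

theorem inv_central_stabU (x : stabU fr) (hx : x * x = 1) (y : stabU fr) : x * y = y * x := by
  obtain ⟨hd, ha⟩ := (mul_self_iff hF he fr x).1 hx
  obtain ⟨a1, a2, a3⟩ := coords_mul hF fr x y
  obtain ⟨b1, b2, b3⟩ := coords_mul hF fr y x
  refine coords_ext hF fr ?_ ?_ ?_
  · rw [a1, b1, mul_comm]
  · rw [a2, b2, hd, ha]; ring
  · rw [a3, b3, ha, map_zero]; ring

theorem centralizer_ker_le :
    Subgroup.centralizer ((ddHom hF fr).ker : Set (stabU fr)) ≤ (ddHom hF fr).ker := by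
  intro g hg
  obtain ⟨⟨z, hz⟩⟩ : Nonempty {b : F // b + b ^ q = (1 : F) ^ (q + 1)} := by
    have h := card_trace_fibre hF he (norm_fixed hF (1 : F))
    have := CfsgLib.ClassicalGroups.herm_two_le hF
    exact (Nat.card_pos_iff.1 (by omega)).1
  obtain ⟨k, k1, k2, -⟩ := exists_coords hF fr (d := 1) (a := 1) (z := z) (by rw [map_one, mul_one])
    ((rel_iff hF he 1 z).1 hz)
  have h := congrArg (aa fr) (hg k ((mem_ker_ddHom hF fr).2 k1))
  rw [(coords_mul hF fr k g).2.1, (coords_mul hF fr g k).2.1, k1, k2] at h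
  exact (mem_ker_ddHom hF fr).2 (by linear_combination -h)

theorem uThreeLike_stabU : UThreeLike q (stabU fr) :=
  ⟨card_stabU hF he fr, card_inv_stabU hF he fr, inv_central_stabU hF he fr,
    (ddHom hF fr).ker, inferInstance, card_ker_ddHom hF he fr,
    isCyclic_of_injective (QuotientGroup.kerLift (ddHom hF fr)) (QuotientGroup.kerLift_injective _),
    centralizer_ker_le hF he fr⟩

omit he in
theorem center_le_ker (g : GUG 3 F q) (hg : g ∈ Subgroup.center (GUG 3 F q)) : conjU g = 1 := by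
  refine MulEquiv.ext fun x => ?_
  obtain ⟨s, rfl⟩ := QuotientGroup.mk_surjective x
  rw [conjU_mk, MulAut.one_apply]
  refine congrArg _ (mat_injective ?_)
  have h : g * suToGU s = suToGU s * g := (Subgroup.mem_center_iff.1 hg (suToGU s)).symm
  have h' := congrArg (fun y : GUG 3 F q => (y.1.1 : Mat 3 F)) h
  simp only [Subgroup.coe_mul, Units.val_mul, suToGU_coe] at h'
  rw [suConj_mat, h', Matrix.mul_assoc, ← Units.val_mul, mul_inv_cancel, Units.val_one, Matrix.mul_one]

omit he in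
theorem center_eq_ker : Subgroup.center (GUG 3 F q) = (conjU : GUG 3 F q →* _).ker := by
  refine le_antisymm (fun g hg => center_le_ker hF g hg) fun g hg => ?_
  obtain ⟨u, rfl⟩ := eq_scalar_of_conjU_eq_one hF (m := 1) le_rfl hg
  refine Subgroup.mem_center_iff.2 fun k => CfsgLib.ClassicalGroups.GU_ext fun x => ?_
  simp only [Subgroup.coe_mul, Units.val_mul, ← mulVec_mulVec, scalarU_coe, scalar_mulVec, mulVec_smul]

omit he in
theorem eq_one_of_scalar_fix {g : stabU fr} (hg : g.1 ∈ Subgroup.center (GUG 3 F q)) : g = 1 := by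
  obtain ⟨u, hu⟩ := eq_scalar_of_conjU_eq_one hF (m := 1) le_rfl (center_le_ker hF g.1 hg)
  have h : gmat g.1 *ᵥ fr.u = fr.u := g.2
  rw [hu, gmat, scalarU_coe, scalar_mulVec] at h
  have h1 : ((u : Fˣ) : F) = 1 := by
    have := congrArg (fun x => hh q x fr.v) h
    simpa [h_smul_left, fr.huv] using this
  refine Subtype.ext (hu.trans ?_)
  rw [show u = 1 from Subtype.ext (Units.ext h1), map_one]
  rfl

omit he in
theorem mk_center_eq_one_iff (g : GUG 3 F q) :
    (QuotientGroup.mk g : GUG 3 F q ⧸ Subgroup.center (GUG 3 F q)) = 1 ↔ conjU g = 1 := by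
  rw [QuotientGroup.eq_one_iff, center_eq_ker hF, MonoidHom.mem_ker]

theorem skew_one : tau hF (1 : F) = -1 := by rw [map_one, neg_eq hF he]

/-- The transvection of the frame. -/
def trU : GUG 3 F q := suToGU (tmat q fr.u 1)

theorem trU_mem : trU fr ∈ stabU fr := tmat_fix hF fr.huu (skew_one hF he)

theorem trU_sq : trU fr * trU fr = 1 := by
  have hs := skew_one hF he
  rw [trU, ← map_mul, ← tmat_add hF fr.huu hs hs,
    show (1 : F) + 1 = 0 by rw [← two_mul, two_eq_zero hF he, zero_mul], tmat_zero hF fr.huu, map_one]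

theorem conjU_trU_ne_one : conjU (trU fr) ≠ 1 := fun e => by
  obtain ⟨u, hu⟩ := eq_scalar_of_conjU_eq_one hF (m := 1) le_rfl e
  refine tel_ne_one hF fr.huu (u_ne_zero hF fr) (skew_one hF he) one_ne_zero ?_
  rw [tel, ← QuotientGroup.mk_one]
  refine (mk_eq_of_smul (z := ((u : Fˣ) : F)) ?_).symm
  rw [mat_one, ← suToGU_coe]
  show ((trU fr).1.1 : Mat 3 F) = _
  rw [hu, scalarU_coe, Matrix.GeneralLinearGroup.coe_scalar, Matrix.smul_one_eq_diagonal]
  rfl

/-- A unitary matrix commuting with the transvection modulo scalars fixes the vector up to a scalar. -/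
theorem exists_fix_of_commute (g : GUG 3 F q) (h : conjU (g * trU fr * g⁻¹) = conjU (trU fr)) :
    ∃ u : normOne F q, g * (scalarU hF u)⁻¹ ∈ stabU fr := by
  have hs := skew_one hF he
  have hu0 := u_ne_zero hF fr
  have hgu : hh q (gmat g *ᵥ fr.u) (gmat g *ᵥ fr.u) = 0 := (h_gu g _ _).trans fr.huu
  have hg0 : gmat g *ᵥ fr.u ≠ 0 := fun e => hu0 (by
    have := congrArg (((g.1⁻¹ : GL _ F) : Mat 3 F) *ᵥ ·) e
    simpa only [gmat, gl_inv_mulVec, mulVec_zero] using this)
  obtain ⟨u, hu⟩ := (conjU_eq_iff hF (m := 1) le_rfl).1 h.symm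
  have h3 : gmat (g * trU fr * g⁻¹) = (((u : Fˣ) : F)) • gmat (trU fr) := by
    rw [hu, gmat_mul, gmat, gmat, scalarU_coe, Matrix.GeneralLinearGroup.coe_scalar]
    ext i j
    simp [Matrix.scalar_apply, Matrix.mul_diagonal, mul_comm]
  have htel : tel q (gmat g *ᵥ fr.u) 1 = tel q fr.u 1 := by
    rw [← conjU_tel hF g fr.huu hs, tel, conjU_mk]
    refine (mk_eq_of_smul (z := ((u : Fˣ) : F)) ?_).symm
    rw [suConj_mat, ← suToGU_coe, ← Units.val_mul, ← Units.val_mul]
    exact h3
  obtain ⟨c, hc⟩ := tel_eq hF hgu hg0 fr.huu hs one_ne_zero hs htel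
  rw [hc, tel_smul hF fr.huu hs] at htel
  have hcn : c * tau hF c = 1 := by
    have h4 := tel_injective hF fr.huu hu0 (by
      rw [one_mul, map_mul, tau_tau, mul_comm (tau hF c), neg_eq hF he]) hs htel
    simpa using h4
  have hc0 : c ≠ 0 := fun e => by rw [e, zero_mul] at hcn; exact zero_ne_one hcn
  refine ⟨⟨Units.mk0 c hc0, (mem_normOne_iff hF).2 hcn⟩, ?_⟩
  show gmat (g * (scalarU hF _)⁻¹) *ᵥ fr.u = fr.u
  rw [← map_inv, gmat_mul, ← mulVec_mulVec]
  show gmat g *ᵥ (((Matrix.GeneralLinearGroup.scalar (Fin 3) _ : GL (Fin 3) F) : Mat 3 F) *ᵥ fr.u) = _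
  rw [scalar_mulVec, mulVec_smul, hc, smul_smul]
  simp [hc0]

/-- The transvection of the frame is an involution fixing the isotropic vector, and its
centraliser modulo the centre is the stabiliser of that vector. -/
theorem exists_involution :
    ∃ y : GUG 3 F q ⧸ Subgroup.center (GUG 3 F q), orderOf y = 2 ∧
      UThreeLike q (Subgroup.centralizer ({y} : Set (GUG 3 F q ⧸ Subgroup.center (GUG 3 F q)))) := by
  obtain ⟨fr⟩ := exists_frame hF 1
  set Y := QuotientGroup.mk' (Subgroup.center (GUG 3 F q)) (trU fr) with hY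
  refine ⟨Y, orderOf_eq_prime (by rw [pow_two, hY, ← map_mul, trU_sq hF he fr, map_one])
    (fun e => conjU_trU_ne_one hF he fr ((mk_center_eq_one_iff hF _).1 e)), ?_⟩
  refine (uThreeLike_stabU hF he fr).of_equiv (MulEquiv.symm ?_)
  let f : stabU fr →* Subgroup.centralizer ({Y} : Set (GUG 3 F q ⧸ Subgroup.center (GUG 3 F q))) :=
    ((QuotientGroup.mk' (Subgroup.center (GUG 3 F q))).comp (stabU fr).subtype).codRestrict _ fun g =>
      Subgroup.mem_centralizer_singleton_iff.2 (by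
        have h := inv_central_stabU hF he fr ⟨trU fr, trU_mem hF he fr⟩ (Subtype.ext (trU_sq hF he fr)) g
        have h' : trU fr * g.1 = g.1 * trU fr := congrArg Subtype.val h
        rw [MonoidHom.comp_apply, Subgroup.subtype_apply, hY, ← map_mul, ← map_mul, h'])
  refine MulEquiv.ofBijective f ⟨(injective_iff_map_eq_one f).2 fun g hg =>
    eq_one_of_scalar_fix hF fr ((QuotientGroup.eq_one_iff _).1 (congrArg Subtype.val hg)), ?_⟩
  rintro ⟨x, hx⟩
  obtain ⟨g, rfl⟩ := QuotientGroup.mk'_surjective (Subgroup.center (GUG 3 F q)) x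
  have h2 : conjU (g * trU fr * g⁻¹ * (trU fr)⁻¹) = 1 := by
    refine (mk_center_eq_one_iff hF _).1 ?_
    have hx' := Subgroup.mem_centralizer_singleton_iff.1 hx
    rw [hY, QuotientGroup.mk'_apply, QuotientGroup.mk'_apply] at hx'
    rw [QuotientGroup.mk_mul, QuotientGroup.mk_mul, QuotientGroup.mk_mul, hx', QuotientGroup.mk_inv,
      QuotientGroup.mk_inv]
    group
  rw [map_mul, map_inv, mul_inv_eq_one] at h2
  obtain ⟨u, hu⟩ := exists_fix_of_commute hF he fr g h2
  refine ⟨⟨_, hu⟩, Subtype.ext ?_⟩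
  show QuotientGroup.mk' _ (g * (scalarU hF u)⁻¹) = QuotientGroup.mk' _ g
  rw [map_mul, map_inv, QuotientGroup.mk'_apply _ (scalarU hF u),
    (mk_center_eq_one_iff hF _).2 (conjU_scalar hF u), inv_one, mul_one]

end CfsgLib.PGUThree
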