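import Mathlib

/-!
Elementary tools: cyclic groups, and membership checked on elements of prime power order.
-/

set_option autoImplicit false

namespace CfsgLib.PGUThree

variable {G : Type*} [Group G] [Finite G]

/-- In a finite cyclic group, an element whose order divides that of `y` is a power of `y`. -/
theorem mem_zpowers_of_orderOf_dvd [IsCyclic G] {x y : G} (h : orderOf x ∣ orderOf y) :
    x ∈ Subgroup.zpowers y := by
  classical
  have := Fintype.ofFinite G
  have hle := IsCyclic.card_pow_eq_one_le (α := G) (n := orderOf y) (orderOf_pos y)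
  have hsub : (Subgroup.zpowers y : Set G).toFinset ⊆
      Finset.univ.filter fun a : G => a ^ orderOf y = 1 := by
    intro a ha
    simp only [Finset.mem_filter, Finset.mem_univ, true_and]
    obtain ⟨i, rfl⟩ := Subgroup.mem_zpowers_iff.1 (Set.mem_toFinset.1 ha)
    rw [← zpow_natCast, ← zpow_mul, mul_comm, zpow_mul, zpow_natCast, pow_orderOf_eq_one, one_zpow]
  have hcard : (Subgroup.zpowers y : Set G).toFinset.card = orderOf y := by
    rw [Set.toFinset_card, ← Fintype.card_zpowers]
    exact Fintype.card_congr (Equiv.refl _)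
  have heq := Finset.eq_of_subset_of_card_le hsub (by omega)
  have hx : x ∈ Finset.univ.filter fun a : G => a ^ orderOf y = 1 := by
    simp only [Finset.mem_filter, Finset.mem_univ, true_and]
    exact orderOf_dvd_iff_pow_eq_one.1 h
  exact Set.mem_toFinset.1 (heq ▸ hx)

/-- In a finite cyclic group subgroups of equal order are equal. -/
theorem eq_of_card_eq_cyclic' [IsCyclic G] {A B : Subgroup G} (h : Nat.card A = Nat.card B) : A = B := by
  obtain ⟨x, hx⟩ := (Subgroup.isCyclic_iff_exists_zpowers_eq_top A).1 inferInstance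
  obtain ⟨y, hy⟩ := (Subgroup.isCyclic_iff_exists_zpowers_eq_top B).1 inferInstance
  subst hx hy
  refine Subgroup.eq_of_le_of_card_ge (Subgroup.zpowers_le.2 (mem_zpowers_of_orderOf_dvd ?_)) h.ge
  rw [← Nat.card_zpowers, ← Nat.card_zpowers, h]

/-- A subgroup containing every prime power order element of `A` contains `A`. -/
theorem le_of_forall_prime_pow {A X : Subgroup G}
    (h : ∀ x ∈ A, ∀ p k : ℕ, p.Prime → orderOf x = p ^ k → x ∈ X) : A ≤ X := by
  suffices key : ∀ n, ∀ x ∈ A, orderOf x = n → x ∈ X from fun x hx => key _ x hx rfl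
  intro n
  induction n using Nat.recOnPrimeCoprime with
  | zero => exact fun x _ hx => absurd hx (orderOf_pos x).ne'
  | prime_pow p k hp => exact fun x hx hxn => h x hx p k hp hxn
  | coprime a b ha hb hab iha ihb =>
    intro x hx hxn
    have h1 : x ^ b ∈ X := iha _ (A.pow_mem hx b) (by
      rw [orderOf_pow' x (by omega), hxn, Nat.gcd_mul_left_left, Nat.mul_div_cancel _ (by omega)])
    have h2 : x ^ a ∈ X := ihb _ (A.pow_mem hx a) (by
      rw [orderOf_pow' x (by omega), hxn, Nat.gcd_mul_right_left, Nat.mul_div_cancel_left _ (by omega)])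
    have e : x = (x ^ b) ^ (Nat.gcdB a b) * (x ^ a) ^ (Nat.gcdA a b) := by
      have hb' := Nat.gcd_eq_gcd_ab a b
      rw [hab.gcd_eq_one] at hb'
      rw [← zpow_natCast x b, ← zpow_natCast x a, ← zpow_mul, ← zpow_mul, ← zpow_add]
      conv_lhs => rw [← zpow_one x]
      congr 1
      push_cast at hb'
      linarith
    rw [e]
    exact X.mul_mem (X.zpow_mem h1 _) (X.zpow_mem h2 _)

end CfsgLib.PGUThree
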