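import Cfsg.Agent.Lib.PGUThree.ModelCentralizer
import Cfsg.Agent.Lib.PGUThree.Tools
import Cfsg.Agent.Lib.Involutions.Basic

/-!
A group with a normal copy of `PSU₃(q)` of odd index, trivial centraliser, in which the involutions of
the centre of a Sylow 2-subgroup share their centralisers, embeds in `PGU₃(q)`.
-/

set_option autoImplicit false
set_option linter.unusedSectionVars false

noncomputable section

namespace CfsgLib.PGUThree

open Matrix CfsgLib.AutPSU CfsgLib.InvCharThree CfsgLib.ClassicalGroups CfsgLib.Involutions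

variable {F : Type*} [Field F] [Fintype F] {q : ℕ} (hF : Fintype.card F = q ^ 2) (he : Even q)
include hF he

/-- An automorphism of the field fixing the subfield of order `q` pointwise has square one. -/
theorem field_sq_eq_one {σ : F ≃+* F} (hσ : ∀ s : F, tau hF s = s → σ s = s) (a : F) :
    σ (σ a) = a := by
  have h1 : σ (a + tau hF a) = a + tau hF a := hσ _ (by rw [map_add, tau_tau, add_comm])
  have h2 : σ (a * tau hF a) = a * tau hF a := hσ _ (by rw [map_mul, tau_tau, mul_comm])
  rw [map_add, tau_map hF] at h1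
  rw [map_mul, tau_map hF] at h2
  have h : (σ a - a) * (σ a - tau hF a) = 0 := by linear_combination σ a * h1 - h2
  rcases mul_eq_zero.1 h with h3 | h3
  · rw [sub_eq_zero.1 h3, sub_eq_zero.1 h3]
  · rw [sub_eq_zero.1 h3, tau_map hF, sub_eq_zero.1 h3, tau_tau]

variable (fr : Frame q 1 F)

/-- An automorphism of odd order fixing the root group of an isotropic vector is inner diagonal. -/
theorem mem_range_conjU_of_fix (hq : 3 ≤ q) {β : MulAut (PSUG 3 F q)} {k : ℕ} (hk : Odd k)
    (hβk : β ^ k = 1) (hfix : ∀ s : F, tau hF s = s → β (tel q fr.u s) = tel q fr.u s) :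
    β ∈ (conjU : GUG 3 F q →* MulAut (PSUG 3 F q)).range := by
  obtain ⟨g, σ, rfl⟩ := aut_psu_structure hF (m := 1) le_rfl (fun _ => hq) β
  have hsk : ∀ s : F, tau hF s = s → tau hF s = -s := fun s hs => by rw [neg_eq hF he, hs]
  have hu0 := u_ne_zero hF fr
  have hσu : hh q (σ ∘ fr.u) (σ ∘ fr.u) = 0 := by rw [← h_map, fr.huu, map_zero]
  set w := (g.1 : Mat 3 F) *ᵥ (σ ∘ fr.u) with hw
  have hww : hh q w w = 0 := (h_gu g _ _).trans hσu
  have key : ∀ s : F, tau hF s = s → tel q w (σ s) = tel q fr.u s := by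
    intro s hs
    have h1 := hfix s hs
    rw [MulAut.mul_apply, fieldU_tel hF σ fr.huu (hsk s hs), conjU_tel hF g hσu
      (hsk _ (by rw [← tau_map hF, hs]))] at h1
    exact h1
  have h1 : tau hF (1 : F) = 1 := map_one _
  obtain ⟨c, hc⟩ := tel_eq hF fr.huu hu0 hww (hsk 1 h1) one_ne_zero
    (hsk _ (by rw [map_one]; exact h1)) (key 1 h1).symm
  have hc0 : c ≠ 0 := fun e => hu0 (by rw [hc, e, zero_smul])
  have hw' : w = c⁻¹ • fr.u := by rw [hc, smul_smul, inv_mul_cancel₀ hc0, one_smul]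
  have hN : ∀ s : F, tau hF s = s → σ s * (c⁻¹ * tau hF c⁻¹) = s := by
    intro s hs
    have h2 := key s hs
    have hσs : tau hF (σ s) = σ s := by rw [← tau_map hF, hs]
    rw [hw', tel_smul hF fr.huu (hsk _ hσs)] at h2
    refine tel_injective hF fr.huu hu0 (hsk _ ?_) (hsk s hs) h2
    rw [map_mul, map_mul, tau_tau, hσs, mul_comm (tau hF c⁻¹)]
  have hn1 : c⁻¹ * tau hF c⁻¹ = 1 := by simpa using hN 1 h1
  have hσfix : ∀ s : F, tau hF s = s → σ s = s := fun s hs => by
    have h3 := hN s hs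
    rwa [hn1, mul_one] at h3
  have hσ2 : σ * σ = 1 := RingEquiv.ext fun a => field_sq_eq_one hF he hσfix a
  have hpow : ∀ m : ℕ, ∃ g' : GUG 3 F q, (conjU g * fieldU σ) ^ m = conjU g' * fieldU (σ ^ m) := by
    intro m
    induction m with
    | zero => exact ⟨1, by simp⟩
    | succ m ih =>
      obtain ⟨g', hg'⟩ := ih
      refine ⟨g' * guField (σ ^ m) g, ?_⟩
      rw [pow_succ, hg', map_mul conjU, pow_succ σ, map_mul fieldU,
        show conjU g' * fieldU (σ ^ m) * (conjU g * fieldU σ) =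
          conjU g' * (fieldU (σ ^ m) * conjU g) * fieldU σ by group, fieldU_mul_conjU]
      group
  obtain ⟨g', hg'⟩ := hpow k
  rw [hβk] at hg'
  have hσk : σ ^ k = 1 := field_eq_one_of_conjU hF (m := 1) le_rfl (g := g'⁻¹) (by
    rw [map_inv]; exact inv_eq_of_mul_eq_one_right hg'.symm)
  obtain ⟨j, rfl⟩ := hk
  rw [pow_succ, pow_mul, pow_two, hσ2, one_pow, one_mul] at hσk
  exact ⟨g, by rw [hσk, map_one, mul_one]⟩

omit fr in
/-- The embedding into `PGU₃(q)`, an isomorphism by the orders. -/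
theorem nonempty_equiv_of_normal (hq : 3 ≤ q) {G : Type*} [Group G] [Finite G] (L : Subgroup G)
    [L.Normal] (hL : Odd L.index) (htriv : ∀ g : G, (∀ l ∈ L, g * l = l * g) → g = 1)
    (hclass : ∀ s t : G, orderOf s = 2 → orderOf t = 2 → ∃ l ∈ L, l * s * l⁻¹ = t)
    (hcent : ∀ z t x : G, orderOf z = 2 → orderOf t = 2 → Commute t z → Commute x z → Commute x t)
    (e : L ≃* PSUG 3 F q) (hcard : Nat.card G = Nat.card (SUG 3 F q)) :
    Nonempty (G ≃* GUG 3 F q ⧸ Subgroup.center (GUG 3 F q)) := by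
  obtain ⟨fr⟩ := exists_frame hF 1
  let ρ : G →* MulAut (PSUG 3 F q) := (MulAut.congr e).toMonoidHom.comp MulAut.conjNormal
  have hρ : ∀ (g : G) (l : L), ρ g (e l) = e (MulAut.conjNormal g l) := fun g l => by
    show e (MulAut.conjNormal g (e.symm (e l))) = _
    rw [e.symm_apply_apply]
  have hinj : Function.Injective ρ := (injective_iff_map_eq_one ρ).2 fun g hg => htriv g fun l hl => by
    have h1 := (hρ g ⟨l, hl⟩).symm
    rw [hg, MulAut.one_apply] at h1
    have h2 := congrArg Subtype.val (e.injective h1)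
    rw [MulAut.conjNormal_apply] at h2
    exact mul_inv_eq_iff_eq_mul.1 h2
  set R := (conjU : GUG 3 F q →* MulAut (PSUG 3 F q)).range.comap ρ with hR
  have hLR : L ≤ R := fun l hl => by
    obtain ⟨s, hs⟩ := QuotientGroup.mk_surjective (e ⟨l, hl⟩)
    refine ⟨suToGU s, MulEquiv.ext fun y => ?_⟩
    obtain ⟨m, rfl⟩ := e.surjective y
    rw [hρ, conjU_su, hs, MulAut.conj_apply, ← map_inv, ← map_mul, ← map_mul]
    exact congrArg e (Subtype.ext (by rw [MulAut.conjNormal_apply]; rfl))
  have h2L : ∀ x : G, (∃ j : ℕ, orderOf x = 2 ^ j) → x ∈ L := by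
    rintro x ⟨j, hj⟩
    rw [← QuotientGroup.eq_one_iff, ← orderOf_eq_one_iff]
    refine Nat.eq_one_of_dvd_coprimes (Nat.Coprime.pow_left j hL.coprime_two_left)
      (hj ▸ orderOf_map_dvd (QuotientGroup.mk' L) x) ?_
    rw [Subgroup.index_eq_card]
    exact orderOf_dvd_natCard _
  have hs1 := skew_one hF he
  have hu0 := u_ne_zero hF fr
  set z : G := (e.symm (tel q fr.u 1) : G) with hzdef
  have hz : orderOf z = 2 := by
    rw [hzdef, Subgroup.orderOf_coe]
    refine orderOf_eq_prime ?_ fun h1 => tel_ne_one hF fr.huu hu0 hs1 one_ne_zero (by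
      rw [← e.apply_symm_apply (tel q fr.u (1 : F)), h1, map_one])
    rw [pow_two, ← map_mul, ← tel_add hF fr.huu hs1 hs1,
      show (1 : F) + 1 = 0 by rw [← two_mul, two_eq_zero hF he, zero_mul], tel_zero hF fr.huu, map_one]
  have hCR : Subgroup.centralizer ({z} : Set G) ≤ R := by
    refine le_of_forall_prime_pow fun x hx p k hp hk => ?_
    rcases eq_or_ne p 2 with rfl | hp2
    · exact hLR (h2L x ⟨k, hk⟩)
    refine mem_range_conjU_of_fix hF he fr hq ((hp.odd_of_ne_two hp2).pow (n := k)) ?_ fun s hs => ?_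
    · rw [← map_pow, ← hk, pow_orderOf_eq_one, map_one]
    have hsk : tau hF s = -s := by rw [neg_eq hF he, hs]
    rcases eq_or_ne s 0 with rfl | hs0
    · rw [tel_zero hF fr.huu, map_one]
    conv_lhs => rw [← e.apply_symm_apply (tel q fr.u s), hρ]
    conv_rhs => rw [← e.apply_symm_apply (tel q fr.u s)]
    refine congrArg e (Subtype.ext ?_)
    rw [MulAut.conjNormal_apply, mul_inv_eq_iff_eq_mul]
    refine (hcent z _ x hz ?_ ?_ (Subgroup.mem_centralizer_singleton_iff.1 hx)).eq
    · rw [Subgroup.orderOf_coe]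
      refine orderOf_eq_prime ?_ fun h1 => tel_ne_one hF fr.huu hu0 hsk hs0 (by
        rw [← e.apply_symm_apply (tel q fr.u s), h1, map_one])
      rw [pow_two, ← map_mul, ← tel_add hF fr.huu hsk hsk,
        show s + s = 0 by rw [← two_mul, two_eq_zero hF he, zero_mul], tel_zero hF fr.huu, map_one]
    · have hcm : tel q fr.u s * tel q fr.u (1 : F) = tel q fr.u (1 : F) * tel q fr.u s := by
        rw [← tel_add hF fr.huu hsk hs1, ← tel_add hF fr.huu hs1 hsk, add_comm s]
      have h3 := congrArg (fun y => (e.symm y : G)) hcm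
      simp only [map_mul, Subgroup.coe_mul] at h3
      exact h3
  have htop : ∀ g : G, g ∈ R := fun g => by
    obtain ⟨l, hl, hlz⟩ := hclass z (g * z * g⁻¹) hz ((orderOf_conj_eq g z).trans hz)
    have h1 : l⁻¹ * g ∈ Subgroup.centralizer ({z} : Set G) := by
      refine Subgroup.mem_centralizer_singleton_iff.2 ?_
      calc l⁻¹ * g * z = l⁻¹ * (g * z * g⁻¹) * g := by group
        _ = l⁻¹ * (l * z * l⁻¹) * g := by rw [hlz]
        _ = z * (l⁻¹ * g) := by group
    simpa using R.mul_mem (hLR hl) (hCR h1)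
  have hle : ρ.range ≤ (conjU : GUG 3 F q →* MulAut (PSUG 3 F q)).range := by
    rintro _ ⟨g, rfl⟩
    exact htop g
  have heq : ρ.range = (conjU : GUG 3 F q →* MulAut (PSUG 3 F q)).range :=
    Subgroup.eq_of_le_of_card_ge hle (by
      rw [card_range_conjU hF (m := 1) le_rfl, ← hcard]
      exact (Nat.card_congr (MonoidHom.ofInjective hinj).toEquiv).le)
  exact ⟨(MonoidHom.ofInjective hinj).trans ((MulEquiv.subgroupCongr heq).trans
    ((QuotientGroup.quotientKerEquivRange conjU).symm.trans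
      (QuotientGroup.quotientMulEquivOfEq (center_eq_ker hF).symm)))⟩

end CfsgLib.PGUThree
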