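import Cfsg.Agent.Lib.PGUThree.Orbit
import Cfsg.Agent.Lib.PGUThree.Embed
import Cfsg.Agent.Lib.SuzukiGroup.Group
import Cfsg.Agent.Lib.PSL2.Basic
import Cfsg.Agent.Lib.DimThreeSub.Models

/-!
The characterisation of `PGU₃(2^n)` by the centraliser of an involution, from the classification of
rank one groups in characteristic two.
-/

set_option autoImplicit false
set_option linter.unusedSectionVars false

noncomputable section

namespace CfsgLib.PGUThree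

open CfsgLib.BenderTrans CfsgLib.Involutions MulAction CfsgLib.AutPSU CfsgLib.ClassicalGroups

universe u v

/-- The conclusion of the rank one classification. -/
def RankOneClass : Prop :=
  ∀ {G : Type u} {Ω : Type u} [Group G] [Finite G] [MulAction G Ω] [FaithfulSMul G Ω] {a : Ω} {t : G}
    {Q : Subgroup G}, Cfsg.IsRankOneSetup G Ω a t Q →
    (∃ x y : G, x ≠ 1 ∧ y ≠ 1 ∧ x ≠ y ∧ x * x = 1 ∧ y * y = 1 ∧ x * y = y * x) →
    ∃ L : Subgroup G, L.Normal ∧ Odd L.index ∧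
      ((∃ (F : Type) (_ : Field F) (_ : Fintype F), (∃ n : ℕ, 2 ≤ n ∧ Fintype.card F = 2 ^ n) ∧
          Nonempty (L ≃* Matrix.ProjectiveSpecialLinearGroup (Fin 2) F)) ∨
        Cfsg.Lie.IsoSuzuki L ∨
        (∃ (F : Type) (_ : Field F) (_ : Fintype F) (n : ℕ), 2 ≤ n ∧ Fintype.card F = (2 ^ n) ^ 2 ∧
          Nonempty (L ≃* Cfsg.PSU 3 F (2 ^ n))))

theorem two_part_unique {a b x y : ℕ} (hx : Odd x) (hy : Odd y) (h : 2 ^ a * x = 2 ^ b * y) :
    a = b ∧ x = y := by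
  have key : ∀ {a b x y : ℕ}, Odd y → 2 ^ a * x = 2 ^ b * y → a ≤ b := by
    intro a b x y hy h
    have h1 : 2 ^ a ∣ 2 ^ b :=
      (Nat.Coprime.pow_left a hy.coprime_two_left).dvd_of_dvd_mul_right (h ▸ Dvd.intro x rfl)
    exact (Nat.pow_dvd_pow_iff_le_right (by norm_num)).1 h1
  obtain rfl := le_antisymm (key hy h) (key hx h.symm)
  exact ⟨rfl, Nat.eq_of_mul_eq_mul_left (by positivity) h⟩

theorem card_SU_three {F : Type*} [Field F] [Fintype F] {q : ℕ} (hF : Fintype.card F = q ^ 2) :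
    Nat.card (SUG 3 F q) = q ^ 3 * ((q ^ 3 + 1) * (q ^ 2 - 1)) := by
  have h := card_GU hF 3
  rw [← card_SU_mul hF (show 1 ≤ 3 by norm_num)] at h
  simp [Finset.prod_range_succ, parity_simps] at h
  refine Nat.eq_of_mul_eq_mul_left (show 0 < q + 1 by omega) (h.trans ?_)
  ring

theorem odd_order_part {n : ℕ} (hn : 1 ≤ n) : Odd (((2 ^ n) ^ 3 + 1) * ((2 ^ n) ^ 2 - 1)) := by
  have he : Even (2 ^ n) := Nat.even_pow.2 ⟨even_two, by omega⟩
  exact (he.pow_of_ne_zero (by norm_num)).add_one.mul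
    (Nat.Even.sub_odd (Nat.one_le_pow _ _ (by positivity)) (he.pow_of_ne_zero (by norm_num)) odd_one)

theorem card_psl_two_even {F : Type*} [Field F] [Fintype F] {m : ℕ} (hm : m ≠ 0)
    (hF : Fintype.card F = 2 ^ m) :
    Nat.card (Matrix.ProjectiveSpecialLinearGroup (Fin 2) F) = 2 ^ m * (2 ^ (2 * m) - 1) := by
  have h := CfsgLib.PSL2.card_psl (F := F)
  rw [CfsgLib.PSL2.gcd_eq_one (by rw [hF]; exact (Nat.even_pow' hm).2 even_two), one_mul, hF] at h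
  have h2 : (2 ^ m) ^ 2 - 1 ^ 2 = (2 ^ m + 1) * (2 ^ m - 1) := Nat.sq_sub_sq _ _
  rw [one_pow] at h2
  rw [h, mul_comm 2 m, pow_mul, h2]
  ring

/-- The rank one group is not `PSL₂`. -/
theorem not_psl {n m i : ℕ} (hn : 2 ≤ n) (hm : 2 ≤ m) (hi : Odd i)
    (h : (2 ^ n) ^ 3 * (((2 ^ n) ^ 3 + 1) * ((2 ^ n) ^ 2 - 1)) = 2 ^ m * (2 ^ (2 * m) - 1) * i) : False := by
  have hA : Odd (2 ^ (2 * m) - 1) :=
    Nat.Even.sub_odd (Nat.one_le_two_pow) (Nat.even_pow.2 ⟨even_two, by omega⟩) odd_one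
  rw [← pow_mul, mul_assoc (2 ^ m)] at h
  obtain ⟨rfl, h2⟩ := two_part_unique (pow_mul 2 n 3 ▸ odd_order_part (n := n) (by omega)) (hA.mul hi) h
  have h3 : 2 ^ (2 * (n * 3)) - 1 ≤ (2 ^ (n * 3) + 1) * ((2 ^ n) ^ 2 - 1) :=
    Nat.le_of_dvd (Nat.pos_of_ne_zero fun e => by
      have := (pow_mul 2 n 3 ▸ odd_order_part (n := n) (by omega) : Odd _)
      simp [e] at this) ⟨i, h2⟩
  rw [show 2 * (n * 3) = n * 6 by ring, pow_mul, pow_mul] at h3
  have h4 : 4 ≤ 2 ^ n := le_trans (by norm_num) (Nat.pow_le_pow_right (by norm_num) hn)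
  generalize 2 ^ n = q at h3 h4
  have h5 : q ^ 2 - 1 + 1 = q ^ 2 := Nat.sub_add_cancel (Nat.one_le_pow _ _ (by omega))
  have h6 : q ^ 2 + 2 ≤ q ^ 3 := by nlinarith
  have h7 : (q ^ 3 + 1) * (q ^ 2 - 1) + 1 < q ^ 6 := by
    have h8 : (q ^ 3 + 1) * (q ^ 2 - 1) ≤ (q ^ 3 + 1) * q ^ 2 := Nat.mul_le_mul_left _ (Nat.sub_le _ _)
    nlinarith
  omega

/-- The rank one group is not a Suzuki group. -/
theorem not_suzuki {n m i : ℕ} (hn : 2 ≤ n) (hm : 1 ≤ m) (hi : Odd i)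
    (h : (2 ^ n) ^ 3 * (((2 ^ n) ^ 3 + 1) * ((2 ^ n) ^ 2 - 1)) =
      (2 ^ (2 * m + 1)) ^ 2 * (2 ^ (2 * m + 1) - 1) * ((2 ^ (2 * m + 1)) ^ 2 + 1) * i) : False := by
  set k := 2 * m + 1
  have hk : Even (2 ^ k) := Nat.even_pow.2 ⟨even_two, by omega⟩
  have hA : Odd (2 ^ k - 1) := Nat.Even.sub_odd (Nat.one_le_two_pow) hk odd_one
  have hB : Odd ((2 ^ k) ^ 2 + 1) := (hk.pow_of_ne_zero (by norm_num)).add_one
  rw [mul_assoc ((2 ^ k) ^ 2), mul_assoc ((2 ^ k) ^ 2)] at h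
  have h' : 2 ^ (n * 3) * (((2 ^ n) ^ 3 + 1) * ((2 ^ n) ^ 2 - 1)) =
      2 ^ (k * 2) * ((2 ^ k - 1) * ((2 ^ k) ^ 2 + 1) * i) := by
    rw [pow_mul 2 n 3, pow_mul 2 k 2]; exact h
  obtain ⟨h1, h2⟩ := two_part_unique (odd_order_part (n := n) (by omega)) ((hA.mul hB).mul hi) h'
  have e : (2 ^ n) ^ 3 = (2 ^ k) ^ 2 := by rw [← pow_mul, ← pow_mul, h1]
  have h3 : 2 ^ k - 1 ∣ (2 ^ n) ^ 2 - 1 := by
    refine ⟨i, ?_⟩
    rw [e] at h2
    refine Nat.eq_of_mul_eq_mul_left (show 0 < (2 ^ k) ^ 2 + 1 by positivity) (h2.trans ?_)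
    ring
  have h4 : Nat.gcd (2 ^ k - 1) (2 ^ (n * 2) - 1) = 2 ^ Nat.gcd k (n * 2) - 1 :=
    Nat.pow_sub_one_gcd_pow_sub_one 2 k (n * 2)
  rw [← pow_mul] at h3
  rw [Nat.gcd_eq_left h3] at h4
  have h5 : k = Nat.gcd k (n * 2) := Nat.pow_right_injective (le_refl 2) (by
    have := Nat.one_le_two_pow (n := k)
    have := Nat.one_le_two_pow (n := Nat.gcd k (n * 2))
    show 2 ^ k = 2 ^ Nat.gcd k (n * 2)
    omega)
  obtain ⟨c, hc⟩ : k ∣ n * 2 := h5 ▸ Nat.gcd_dvd_right _ _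
  rcases Nat.lt_or_ge c 2 with hc2 | hc2
  · interval_cases c <;> omega
  · nlinarith

/-- The rank one group is `PSU₃(q)` for the same `q`. -/
theorem psu_param {n m i Z P : ℕ} (hn : 2 ≤ n) (hm : 2 ≤ m) (hi : Odd i) (hZ : Odd Z)
    (hG : (2 ^ n) ^ 3 * (((2 ^ n) ^ 3 + 1) * ((2 ^ n) ^ 2 - 1)) = P * i)
    (hP : (2 ^ m) ^ 3 * (((2 ^ m) ^ 3 + 1) * ((2 ^ m) ^ 2 - 1)) = Z * P) : n = m := by
  have h : (2 ^ n) ^ 3 * ((((2 ^ n) ^ 3 + 1) * ((2 ^ n) ^ 2 - 1)) * Z) =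
      (2 ^ m) ^ 3 * ((((2 ^ m) ^ 3 + 1) * ((2 ^ m) ^ 2 - 1)) * i) := by
    rw [← mul_assoc, hG, ← mul_assoc ((2 ^ m) ^ 3), hP]
    ring
  have h' : 2 ^ (n * 3) * ((((2 ^ n) ^ 3 + 1) * ((2 ^ n) ^ 2 - 1)) * Z) =
      2 ^ (m * 3) * ((((2 ^ m) ^ 3 + 1) * ((2 ^ m) ^ 2 - 1)) * i) := by
    rw [pow_mul 2 n 3, pow_mul 2 m 3]; exact h
  have := (two_part_unique ((odd_order_part (n := n) (by omega)).mul hZ)
    ((odd_order_part (n := m) (by omega)).mul hi) h').1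
  omega

theorem main (hR : RankOneClass.{u}) {G : Type u} [Group G] [Finite G] {F : Type v} [Field F]
    [Fintype F] {q : ℕ} (hF : Fintype.card F = q ^ 2) (h : Hyp G q) :
    Nonempty (G ≃* GUG 3 F q ⧸ Subgroup.center (GUG 3 F q)) := by
  obtain ⟨n, hn, hqn⟩ := h.pow
  subst hqn
  obtain ⟨z, S, -, -, -⟩ := h.exists_sylow_central
  have hP := h.exists_point S
  generalize hΩ : (QuotientGroup.mk (1 : G) : G ⧸ Subgroup.normalizer ((S : Subgroup G) : Set G)) = a at hP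
  clear hΩ
  have : FaithfulSMul G (G ⧸ Subgroup.normalizer ((S : Subgroup G) : Set G)) :=
    ⟨fun {g₁ g₂} e => inv_mul_eq_one.1 (hP.eq_one_of_forall_fix fun x => by
      rw [mul_smul, ← e, inv_smul_smul])⟩
  obtain ⟨t, hset⟩ := hP.exists_setup
  obtain ⟨x, y, hx, hy, hne, hc⟩ := h.hasFour
  obtain ⟨L, hLn, hLi, hL⟩ := hR hset ⟨x, y,
    fun e => (by simp [e] at hx), fun e => (by simp [e] at hy), hne,
    mul_self_eq_one hx, mul_self_eq_one hy, hc.eq⟩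
  have hcardG : Nat.card G = (2 ^ n) ^ 3 * (((2 ^ n) ^ 3 + 1) * ((2 ^ n) ^ 2 - 1)) := by
    rw [hP.card_group]
    generalize 2 ^ n = r
    rw [show r ^ 2 - 1 = (r - 1) * (r + 1) by
      rw [pow_two, mul_comm (r - 1), ← Nat.mul_self_sub_mul_self_eq]]
    ring
  have hGL : Nat.card G = Nat.card L * L.index := L.card_mul_index.symm
  rcases hL with ⟨F₀, _, _, ⟨m, hm, hF₀⟩, ⟨e⟩⟩ | hSz | ⟨F₀, _, _, m, hm, hF₀, ⟨e⟩⟩
  · rw [Nat.card_congr e.toEquiv, card_psl_two_even (by omega) hF₀, hcardG] at hGL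
    exact (not_psl hn hm hLi hGL).elim
  · obtain ⟨F₀, _, _, m, hm, hF₀, ⟨e⟩⟩ := hSz
    obtain ⟨_, ⟨P⟩⟩ := CfsgLib.SuzukiGroup.exists_params hF₀
    rw [Nat.card_congr e.toEquiv, CfsgLib.SuzukiGroup.card_sz P, hF₀, hcardG] at hGL
    exact (not_suzuki hn hm hLi hGL).elim
  · have he0 : Even (2 ^ m) := Nat.even_pow.2 ⟨even_two, by omega⟩
    rw [Nat.card_congr e.toEquiv, hcardG] at hGL
    have hmn : n = m := psu_param hn hm hLi (CfsgLib.InvCharThree.su_center_odd hF₀ he0) hGL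
      ((card_SU_three hF₀).symm.trans (card_SU_eq_center_mul_PSU 3))
    subst hmn
    have e₀ : F₀ ≃+* F := FiniteField.ringEquivOfCardEq (hF₀.trans hF.symm)
    have he : Even (2 ^ n) := h.even_q
    have hone := hP.act.one
    have hinvL : ∀ s : G, orderOf s = 2 → s ∈ L := fun s hs => by
      rw [← QuotientGroup.eq_one_iff, ← orderOf_eq_one_iff]
      refine Nat.eq_one_of_dvd_coprimes hLi.coprime_two_left
        (hs ▸ orderOf_map_dvd (QuotientGroup.mk' L) s) ?_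
      rw [Subgroup.index_eq_card]
      exact orderOf_dvd_natCard _
    refine nonempty_equiv_of_normal hF he (by have := h.four_le; omega) L hLi ?_ ?_ ?_
      (e.trans (CfsgLib.DimThreeSub.psuEquiv 3 (2 ^ n) e₀)) ?_
    · intro g hg
      obtain ⟨b, hb⟩ := hP.exists_ne
      have h4 := h.four_le
      obtain ⟨r, hr⟩ := (Set.ncard_pos (s := swaps G a b)).1 (by
        rw [hone.ncard_swaps hb.symm, hP.act.count a]; omega)
      refine hP.eq_one_of_commute hb hr (fun w hw => hg w ?_) (hg r (hinvL r hr.1))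
      obtain ⟨j, hj⟩ := IsPGroup.iff_orderOf.1 hP.isPGroup ⟨w, hw⟩
      rw [Subgroup.orderOf_mk] at hj
      rw [← QuotientGroup.eq_one_iff, ← orderOf_eq_one_iff]
      refine Nat.eq_one_of_dvd_coprimes (Nat.Coprime.pow_left j hLi.coprime_two_left)
        (hj ▸ orderOf_map_dvd (QuotientGroup.mk' L) w) ?_
      rw [Subgroup.index_eq_card]
      exact orderOf_dvd_natCard _
    · intro s u hs hu
      obtain ⟨c, hc'⟩ := hone.exists_fix s hs
      obtain ⟨d, hd⟩ := hone.exists_fix u hu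
      have key : ∀ {x y : G} {p r : G ⧸ Subgroup.normalizer ((S : Subgroup G) : Set G)},
          x ∈ invAt G p → y ∈ invAt G r → p ≠ r → ∃ l ∈ L, l * x * l⁻¹ = y := fun {x y p r} hx hy hpr => by
        obtain ⟨l, -, hl, hlc⟩ := hone.exists_mid hx hy hpr
        refine ⟨l, (Subgroup.closure_le L).2 ?_ hlc, hl⟩
        rintro w (rfl | rfl)
        · exact hinvL _ hx.1
        · exact hinvL _ hy.1
      rcases eq_or_ne c d with rfl | hcd
      · obtain ⟨r, hr⟩ := hone.nontriv c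
        obtain ⟨w, hw⟩ := hone.exists_invAt r
        obtain ⟨l₁, hl₁, e₁⟩ := key ⟨hs, hc'⟩ hw hr.symm
        obtain ⟨l₂, hl₂, e₂⟩ := key hw ⟨hu, hd⟩ hr
        refine ⟨l₂ * l₁, L.mul_mem hl₂ hl₁, ?_⟩
        rw [← e₂, ← e₁]
        group
      · exact key ⟨hs, hc'⟩ ⟨hu, hd⟩ hcd
    · intro z t x hz ht htz hxz
      obtain ⟨c, hc'⟩ := hone.exists_fix z hz
      have h1 := hP.act.cent c z ⟨hz, hc'⟩ t ⟨ht, hone.fix_of_commute ⟨hz, hc'⟩ htz⟩
      have h2 : x ∈ Subgroup.centralizer ({z} : Set G) :=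
        Subgroup.mem_centralizer_singleton_iff.2 hxz.eq
      rw [h1, Subgroup.mem_centralizer_singleton_iff] at h2
      exact h2
    · rw [card_SU_three hF, hcardG]

end CfsgLib.PGUThree

namespace CfsgLib.PGUThree

open CfsgLib.AutPSU

universe w z

/-- The statement for `PGU₃(q)`. -/
theorem characterization (hR : RankOneClass.{w}) {G : Type w} [Group G] [Finite G] {F : Type z}
    [Field F] [Fintype F] [CharP F 2] (q : ℕ) (hq : 2 < q) (hF : Fintype.card F = q ^ 2)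
    (heven : Even (Nat.card G)) (hconj : ∀ s t : G, orderOf s = 2 → orderOf t = 2 → IsConj s t)
    (hC : ∀ (x : G) (y : GUG 3 F q ⧸ Subgroup.center (GUG 3 F q)), orderOf x = 2 → orderOf y = 2 →
      Nonempty (↥(Subgroup.centralizer ({x} : Set G)) ≃*
        ↥(Subgroup.centralizer ({y} : Set (GUG 3 F q ⧸ Subgroup.center (GUG 3 F q))))))
    (hS : ∀ P : Sylow 2 G, ¬ (P : Subgroup G).Normal) :
    Nonempty (G ≃* GUG 3 F q ⧸ Subgroup.center (GUG 3 F q)) := by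
  obtain ⟨⟨k, hk0⟩, -, hk⟩ := FiniteField.card F 2
  simp only [PNat.mk_coe] at hk
  have hdvd : q ∣ 2 ^ k := by
    rw [← hk, hF, pow_two]
    exact dvd_mul_right q q
  obtain ⟨n, -, rfl⟩ := (Nat.dvd_prime_pow Nat.prime_two).1 hdvd
  have hn : 2 ≤ n := by
    rcases n with _ | _ | n
    · norm_num at hq
    · norm_num at hq
    · omega
  obtain ⟨y, hy, hy'⟩ := exists_involution hF (Nat.even_pow.2 ⟨even_two, by omega⟩ : Even (2 ^ n))
  exact main hR hF ⟨heven, hconj, fun x hx => hy'.of_equiv (Classical.choice (hC x y hx hy)), hS,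
    n, hn, rfl⟩

end CfsgLib.PGUThree
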