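import Cfsg.Agent.Lib.AutPSU.Card
import Cfsg.Agent.Lib.InvChar.SylowThree

/-!
The centraliser of an involution in `PGU₃(q)`, `q` even: the stabiliser in `GU₃(q)` of an isotropic
vector, and the properties of it used in the characterisation of `PGU₃(q)`.
-/

set_option autoImplicit false
set_option linter.unusedSectionVars false

noncomputable section

namespace CfsgLib.PGUThree

open Matrix CfsgLib.AutPSU

/-- The properties of the centraliser of an involution in `PGU₃(q)`, `q` even, that are used. -/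
structure UThreeLike (q : ℕ) (C : Type*) [Group C] : Prop where
  card : Nat.card C = q ^ 3 * (q + 1)
  card_inv : Nat.card {x : C // x * x = 1} = q
  inv_central : ∀ x : C, x * x = 1 → ∀ y : C, x * y = y * x
  radical : ∃ K : Subgroup C, ∃ _ : K.Normal, Nat.card K = q ^ 3 ∧ IsCyclic (C ⧸ K) ∧
    Subgroup.centralizer (K : Set C) ≤ K

theorem UThreeLike.of_equiv {q : ℕ} {C : Type*} [Group C] {C' : Type*} [Group C'] (h : UThreeLike q C)
    (e : C' ≃* C) : UThreeLike q C' := by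
  refine ⟨(Nat.card_congr e.toEquiv).trans h.card, ?_, ?_, ?_⟩
  · rw [← h.card_inv]
    refine Nat.card_congr (e.toEquiv.subtypeEquiv fun x => ?_)
    rw [← e.injective.eq_iff, map_mul, map_one]
    rfl
  · intro x hx y
    exact e.injective (by
      rw [map_mul, map_mul]
      exact h.inv_central (e x) (by rw [← map_mul, hx, map_one]) (e y))
  · obtain ⟨K, hK, hc, hcyc, hcent⟩ := h.radical
    refine ⟨K.comap e.toMonoidHom, hK.comap _, ?_, ?_, ?_⟩
    · rw [← hc]
      exact Nat.card_congr (e.toEquiv.subtypeEquiv fun x => Iff.rfl)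
    · have := hcyc
      exact isCyclic_of_surjective
        (QuotientGroup.congr K (K.comap e.toMonoidHom) e.symm (by
          rw [Subgroup.comap_equiv_eq_map_symm']; rfl)).toMonoidHom
        (QuotientGroup.congr K (K.comap e.toMonoidHom) e.symm _).surjective
    · intro x hx
      refine hcent fun k hk => ?_
      have := hx (e.symm k) (by simpa using hk)
      simpa using congrArg e this

variable {F : Type*} [Field F] [Fintype F] {q : ℕ} (hF : Fintype.card F = q ^ 2)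
  (fr : Frame q 1 F)

/-- The matrix of a unitary transformation. -/
abbrev gmat (g : GUG 3 F q) : Mat 3 F := (g.1 : GL (Fin 3) F)

theorem gmat_mul (g g' : GUG 3 F q) : gmat (g * g') = gmat g * gmat g' := rfl

/-- The unit vector orthogonal to the frame. -/
def ee : Vec 3 F := inW (fun _ => (1 : F))

theorem inW_eq (w : Vec 1 F) : inW w = w 0 • (ee : Vec 3 F) := by
  rw [ee, ← inW_smul]
  congr 1
  funext i
  fin_cases i
  simp

/-- The stabiliser of the isotropic vector of the frame. -/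
def stabU : Subgroup (GUG 3 F q) where
  carrier := {g | gmat g *ᵥ fr.u = fr.u}
  one_mem' := one_mulVec fr.u
  mul_mem' := fun {a b} (ha : gmat a *ᵥ fr.u = fr.u) (hb : gmat b *ᵥ fr.u = fr.u) => by
    show gmat (a * b) *ᵥ fr.u = fr.u
    rw [gmat_mul, ← mulVec_mulVec, hb, ha]
  inv_mem' := fun {a} (ha : gmat a *ᵥ fr.u = fr.u) => by
    show gmat a⁻¹ *ᵥ fr.u = fr.u
    conv_lhs => rw [← ha]
    exact gl_inv_mulVec a.1 fr.u

/-- The eigenvalue on the unit vector. -/
def dd (g : stabU fr) : F := wp (gmat g.1 *ᵥ ee) 0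
/-- The first coordinate of the image of the second isotropic vector. -/
def aa (g : stabU fr) : F := wp (gmat g.1 *ᵥ fr.v) 0
/-- The second coordinate of the image of the second isotropic vector. -/
def zz (g : stabU fr) : F := hh q (gmat g.1 *ᵥ fr.v) fr.v

include hF

theorem hh_ee : hh q (ee : Vec 3 F) ee = 1 := by
  rw [ee, h_inW]
  simp [hh, Cfsg.hermForm]

theorem hh_ee_u : hh q (ee : Vec 3 F) fr.u = 0 := h_inW_u hF fr _
theorem hh_ee_v : hh q (ee : Vec 3 F) fr.v = 0 := h_inW_v hF fr _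
theorem hh_u_ee : hh q fr.u (ee : Vec 3 F) = 0 := h_u_inW hF fr _
theorem hh_v_ee : hh q fr.v (ee : Vec 3 F) = 0 := h_v_inW hF fr _

theorem mulVec_ee (g : stabU fr) :
    gmat g.1 *ᵥ ee = (-(tau hF (aa fr g) * dd fr g)) • fr.u + dd fr g • ee ∧
      gmat g.1 *ᵥ fr.v = zz fr g • fr.u + fr.v + aa fr g • ee ∧
      dd fr g * tau hF (dd fr g) = 1 ∧
      zz fr g + tau hF (zz fr g) + aa fr g * tau hF (aa fr g) = 0 := by
  have hu : gmat g.1 *ᵥ fr.u = fr.u := g.2
  have hvu1 : hh q (gmat g.1 *ᵥ fr.v) fr.u = 1 := by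
    conv_lhs => rw [← hu]
    rw [h_gu g.1, hvu hF fr]
  have heu : hh q (gmat g.1 *ᵥ ee) fr.u = 0 := by
    conv_lhs => rw [← hu]
    rw [h_gu g.1, hh_ee_u hF fr]
  have hv' : gmat g.1 *ᵥ fr.v = zz fr g • fr.u + fr.v + aa fr g • ee := by
    conv_lhs => rw [decomp hF fr (gmat g.1 *ᵥ fr.v), hvu1, one_smul, inW_eq]
    rfl
  have he' : gmat g.1 *ᵥ ee = hh q (gmat g.1 *ᵥ ee) fr.v • fr.u + dd fr g • ee := by
    conv_lhs => rw [decomp hF fr (gmat g.1 *ᵥ ee), heu, zero_smul, add_zero, inW_eq]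
    rfl
  set b := hh q (gmat g.1 *ᵥ ee) fr.v with hbdef
  have hdd : dd fr g * tau hF (dd fr g) = 1 := by
    have h1 := h_gu g.1 (ee : Vec 3 F) ee
    rw [hh_ee hF, show ((g.1.1 : GL (Fin 3) F) : Mat 3 F) = gmat g.1 from rfl, he'] at h1
    simp only [h_add_left, h_add_right hF, h_smul_left, h_smul_right hF, fr.huu, hh_ee hF,
      hh_ee_u hF fr, hh_u_ee hF fr] at h1
    linear_combination h1
  have hbb : b = -(tau hF (aa fr g) * dd fr g) := by
    have h1 := h_gu g.1 (ee : Vec 3 F) fr.v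
    rw [hh_ee_v hF fr, show ((g.1.1 : GL (Fin 3) F) : Mat 3 F) = gmat g.1 from rfl, he', hv'] at h1
    simp only [h_add_left, h_add_right hF, h_smul_left, h_smul_right hF, fr.huu, fr.huv, hh_ee hF,
      hh_ee_u hF fr, hh_u_ee hF fr, hh_ee_v hF fr] at h1
    linear_combination h1
  have hzz : zz fr g + tau hF (zz fr g) + aa fr g * tau hF (aa fr g) = 0 := by
    have h1 := h_gu g.1 fr.v fr.v
    rw [fr.hvv, show ((g.1.1 : GL (Fin 3) F) : Mat 3 F) = gmat g.1 from rfl, hv'] at h1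
    simp only [h_add_left, h_add_right hF, h_smul_left, h_smul_right hF, fr.huu, fr.huv, fr.hvv,
      hvu hF fr, hh_ee hF, hh_ee_u hF fr, hh_u_ee hF fr, hh_ee_v hF fr, hh_v_ee hF fr] at h1
    linear_combination h1
  exact ⟨by rw [← hbb]; exact he', hv', hdd, hzz⟩

theorem coords_mul (g g' : stabU fr) :
    dd fr (g * g') = dd fr g * dd fr g' ∧ aa fr (g * g') = aa fr g + aa fr g' * dd fr g ∧
      zz fr (g * g') = zz fr g + zz fr g' - aa fr g' * (tau hF (aa fr g) * dd fr g) := by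
  obtain ⟨he, hv, -, -⟩ := mulVec_ee hF fr g
  obtain ⟨he', hv', -, -⟩ := mulVec_ee hF fr g'
  have hu : gmat g.1 *ᵥ fr.u = fr.u := g.2
  have he2 : gmat (g * g').1 *ᵥ ee = (-(tau hF (aa fr g') * dd fr g') -
      dd fr g' * (tau hF (aa fr g) * dd fr g)) • fr.u + (dd fr g * dd fr g') • ee := by
    rw [Subgroup.coe_mul, gmat_mul, ← mulVec_mulVec, he', mulVec_add, mulVec_smul, mulVec_smul, hu, he]
    module
  have hv2 : gmat (g * g').1 *ᵥ fr.v = (zz fr g + zz fr g' - aa fr g' * (tau hF (aa fr g) * dd fr g)) •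
      fr.u + fr.v + (aa fr g + aa fr g' * dd fr g) • ee := by
    rw [Subgroup.coe_mul, gmat_mul, ← mulVec_mulVec, hv', mulVec_add, mulVec_add, mulVec_smul,
      mulVec_smul, hu, hv, he]
    module
  refine ⟨?_, ?_, ?_⟩
  · show wp (gmat (g * g').1 *ᵥ ee) 0 = _
    rw [he2, wp_add, wp_smul, wp_smul, fr.hu]
    simp [ee, wp_inW]
  · show wp (gmat (g * g').1 *ᵥ fr.v) 0 = _
    rw [hv2, wp_add, wp_add, wp_smul, wp_smul, fr.hu, fr.hv]
    simp [ee, wp_inW]
  · show hh q (gmat (g * g').1 *ᵥ fr.v) fr.v = _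
    rw [hv2]
    simp only [h_add_left, h_smul_left, fr.huv, fr.hvv, hh_ee_v hF fr]
    ring

theorem coords_ext {g g' : stabU fr} (h1 : dd fr g = dd fr g') (h2 : aa fr g = aa fr g')
    (h3 : zz fr g = zz fr g') : g = g' := by
  obtain ⟨he, hv, -, -⟩ := mulVec_ee hF fr g
  obtain ⟨he', hv', -, -⟩ := mulVec_ee hF fr g'
  have hu : gmat g.1 *ᵥ fr.u = fr.u := g.2
  have hu' : gmat g'.1 *ᵥ fr.u = fr.u := g'.2
  refine Subtype.ext (CfsgLib.ClassicalGroups.GU_ext fun x => ?_)
  show gmat g.1 *ᵥ x = gmat g'.1 *ᵥ x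
  rw [mulVec_decomp hF fr, mulVec_decomp hF fr (gmat g'.1), hu, hu', hv, hv', inW_eq, mulVec_smul,
    mulVec_smul, he, he', h1, h2, h3]

theorem coords_one : dd fr (1 : stabU fr) = 1 ∧ aa fr (1 : stabU fr) = 0 ∧ zz fr (1 : stabU fr) = 0 := by
  refine ⟨?_, ?_, ?_⟩
  · show wp ((1 : Mat 3 F) *ᵥ ee) 0 = 1
    rw [one_mulVec, ee, wp_inW]
  · show wp ((1 : Mat 3 F) *ᵥ fr.v) 0 = 0
    rw [one_mulVec, fr.hv]
    rfl
  · show hh q ((1 : Mat 3 F) *ᵥ fr.v) fr.v = 0
    rw [one_mulVec, fr.hvv]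

theorem exists_coords {d a z : F} (hd : d * tau hF d = 1) (hz : z + tau hF z + a * tau hF a = 0) :
    ∃ g : stabU fr, dd fr g = d ∧ aa fr g = a ∧ zz fr g = z := by
  let M : Vec 1 F →ₗ[F] Vec 3 F :=
    { toFun := fun w => w 0 • ((-(tau hF a * d)) • fr.u + d • ee)
      map_add' := fun w w' => by rw [Pi.add_apply, add_smul]
      map_smul' := fun c w => by rw [Pi.smul_apply, smul_eq_mul, mul_smul, RingHom.id_apply] }
  have hM : ∀ w, M w = w 0 • ((-(tau hF a * d)) • fr.u + d • ee) := fun _ => rfl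
  obtain ⟨g, hgu, hgv, hgw⟩ := exists_gu_frame hF fr fr.u (z • fr.u + fr.v + a • ee) M fr.huu
    (by
      simp only [h_add_left, h_add_right hF, h_smul_left, h_smul_right hF, fr.huu, fr.huv, fr.hvv,
        hvu hF fr, hh_ee hF, hh_ee_u hF fr, hh_u_ee hF fr, hh_ee_v hF fr, hh_v_ee hF fr]
      linear_combination hz)
    (by
      simp only [h_add_right hF, h_smul_right hF, fr.huu, fr.huv, hh_u_ee hF fr]
      ring)
    (fun w => by
      simp only [hM, h_add_left, h_smul_left, fr.huu, hh_ee_u hF fr]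
      ring)
    (fun w => by
      simp only [hM, h_add_left, h_add_right hF, h_smul_left, h_smul_right hF, fr.huu, fr.huv,
        hh_ee hF, hh_ee_u hF fr, hh_u_ee hF fr, hh_ee_v hF fr]
      ring)
    (fun w w' => by
      have e1 : hh q w w' = w 0 * tau hF (w' 0) := by simp [hh, Cfsg.hermForm, tau_apply]
      simp only [hM, h_add_left, h_add_right hF, h_smul_left, h_smul_right hF, fr.huu,
        hh_ee hF, hh_ee_u hF fr, hh_u_ee hF fr, e1]
      linear_combination (w 0 * tau hF (w' 0)) * hd)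
  refine ⟨⟨g, hgu⟩, ?_, ?_, ?_⟩
  · show wp (gmat g *ᵥ ee) 0 = d
    rw [show gmat g *ᵥ ee = M (fun _ => 1) from hgw _, hM, one_smul, wp_add, wp_smul, wp_smul, fr.hu]
    simp [ee, wp_inW]
  · show wp (gmat g *ᵥ fr.v) 0 = a
    rw [show gmat g *ᵥ fr.v = _ from hgv, wp_add, wp_add, wp_smul, wp_smul, fr.hu, fr.hv]
    simp [ee, wp_inW]
  · show hh q (gmat g *ᵥ fr.v) fr.v = z
    rw [show gmat g *ᵥ fr.v = _ from hgv]
    simp only [h_add_left, h_smul_left, fr.huv, fr.hvv, hh_ee_v hF fr]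
    ring

end CfsgLib.PGUThree
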