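import Cfsg.Agent.Lib.PGUThree.RankOne
import Cfsg.Prelude.Def_LieRecognition

/-!
The action on the cosets of a Sylow normaliser: orders, regularity of the Sylow subgroup and the
rank one set-up.
-/

set_option autoImplicit false
set_option linter.unusedSectionVars false

namespace CfsgLib.PGUThree

open CfsgLib.BenderTrans CfsgLib.Involutions MulAction

universe u v

variable {G : Type u} [Group G] [Finite G] {q : ℕ}

namespace Hyp

variable (h : Hyp G q)
include h

/-- The configuration on the cosets of a Sylow normaliser. -/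
theorem exists_point (S : Sylow 2 G) :
    Point G (G ⧸ Subgroup.normalizer ((S : Subgroup G) : Set G)) q
      (QuotientGroup.mk (1 : G)) (S : Subgroup G) := by
  set N := Subgroup.normalizer ((S : Subgroup G) : Set G) with hN
  have hse := h.stronglyEmbedded S
  have hone := oneFix_of_stronglyEmbedded hse
  have htrans : TwoTrans G (G ⧸ N) := twoTrans_of_stronglyEmbedded
    (fun X _ _ hX => Cfsg.Agent.S0205.result hX) hse h.hasFour
  have hstab : stabilizer G (QuotientGroup.mk (1 : G) : G ⧸ N) = N := MulAction.stabilizer_quotient N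
  have hinv : ∀ g t : G, t ∈ invAt G (QuotientGroup.mk g : G ⧸ N) ↔ orderOf t = 2 ∧ t ∈ g • S := by
    intro g t
    refine and_congr_right fun ht => ?_
    rw [MulAction.Quotient.smul_mk, smul_eq_mul, QuotientGroup.eq, mem_conj_sylow]
    have hto : orderOf (g⁻¹ * t * g) = 2 := by simpa using (orderOf_conj_eq g⁻¹ t).trans ht
    rw [show (t * g)⁻¹ * g = (g⁻¹ * t * g)⁻¹ by group, inv_mem_iff]
    exact ⟨fun hh => h.inv_mem_sylow hto hh, fun hh => Subgroup.le_normalizer hh⟩
  have hcent : ∀ c : G ⧸ N, ∀ s ∈ invAt G c, ∀ t ∈ invAt G c,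
      Subgroup.centralizer ({s} : Set G) = Subgroup.centralizer ({t} : Set G) := by
    intro c s hs t ht
    obtain ⟨g, rfl⟩ := QuotientGroup.mk_surjective c
    rw [hinv] at hs ht
    exact h.centralizer_eq hs.1 ht.1
      (Subgroup.mem_centralizer_singleton_iff.1 (h.le_centralizer ht.1 ht.2 hs.2))
  have hcount : ∀ c : G ⧸ N, (invAt G c).ncard = q - 1 := by
    intro c
    obtain ⟨g, rfl⟩ := QuotientGroup.mk_surjective c
    rw [← h.card_invols (g • S)]
    exact congrArg Set.ncard (Set.ext fun t => hinv g t)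
  have hmem : ∀ s ∈ invAt G (QuotientGroup.mk (1 : G) : G ⧸ N), s ∈ S := fun s hs => by
    have h1 := ((hinv 1 s).1 hs).2
    rwa [one_smul] at h1
  refine ⟨⟨hone, htrans, hcent, hcount, h.like, h.pow⟩, hstab.symm ▸ (Subgroup.le_normalizer : (S : Subgroup G) ≤ N), ?_,
    h.card_sylow S, fun s hs => h.le_centralizer hs.1 (hmem s hs), ?_, hmem⟩
  · rw [hstab]
    exact fun g hg x hx => (Subgroup.mem_normalizer_iff.1 hg x).1 hx
  · intro s hs
    obtain ⟨K, hKn, hK, hcyc, hcK⟩ := (h.like s hs.1).radical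
    refine ⟨K, hKn, hcyc, ?_, hcK⟩
    obtain ⟨n, -, hn⟩ := h.pow
    have hP : IsPGroup 2 (K.map (Subgroup.centralizer ({s} : Set G)).subtype) :=
      IsPGroup.of_card (n := n * 3) (by
        rw [Subgroup.card_map_of_injective (Subgroup.subtype_injective _), hK, hn, pow_mul])
    obtain ⟨U, -, -, hU⟩ := h.exists_sylow_of hs.1
    have hsU : s ∈ U := hU _ (isPGroup_zpowers_invol hs.1)
      (Subgroup.zpowers_le.2 (Subgroup.mem_centralizer_singleton_iff.2 rfl)) (Subgroup.mem_zpowers s)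
    refine Subgroup.eq_of_le_of_card_ge ?_ (by
      rw [h.card_sylow S, Subgroup.card_map_of_injective (Subgroup.subtype_injective _), hK])
    rw [← h.sylow_eq hs.1 hsU (hmem s hs)]
    exact hU _ hP (Subgroup.map_subtype_le _)

end Hyp

namespace Point

variable {Ω : Type v} [MulAction G Ω] [Finite Ω] {a : Ω} {S : Subgroup G} (h : Point G Ω q a S)
include h

theorem exists_ne : ∃ b, b ≠ a := h.act.one.nontriv a

theorem invAt_nonempty : (invAt G a).Nonempty := h.act.one.exists_invAt a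

theorem ncard_others : ({a}ᶜ : Set Ω).ncard = q ^ 3 := by
  obtain ⟨b, hb⟩ := h.exists_ne
  obtain ⟨s, hs⟩ := h.invAt_nonempty
  set C := Subgroup.centralizer ({s} : Set G) with hC
  have hfix : ∀ c : C, (c : G) • a = a := fun c =>
    h.act.stab_of_commute hs (Subgroup.mem_centralizer_singleton_iff.1 c.2)
  have horb : orbit C b = ({a}ᶜ : Set Ω) := by
    ext x
    constructor
    · rintro ⟨c, rfl⟩ e
      exact hb (smul_left_cancel (c : G) ((Set.mem_singleton_iff.1 e).trans (hfix c).symm))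
    · intro hx
      obtain ⟨g, hg, hgb⟩ := h.act.exists_smul hb hx hs
      exact ⟨⟨g, Subgroup.mem_centralizer_singleton_iff.2 hg.eq⟩, hgb⟩
  have hst : stabilizer C b = (two G a b).subgroupOf C := by
    ext c
    rw [mem_stabilizer_iff, Subgroup.mem_subgroupOf, mem_two_iff]
    exact ⟨fun e => ⟨hfix c, e⟩, fun e => e.2⟩
  have h1 := (stabilizer C b).card_mul_index
  rw [MulAction.index_stabilizer, horb, (h.act.like s hs.1).card, hst] at h1
  have h2 : Nat.card ((two G a b).subgroupOf C) = q + 1 := by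
    rw [← Subgroup.inf_subgroupOf_right, Nat.card_congr (Subgroup.subgroupOfEquivOfLe inf_le_right).toEquiv,
      h.card_fix hb hs]
  rw [h2, mul_comm (q ^ 3)] at h1
  exact Nat.eq_of_mul_eq_mul_left (Nat.succ_pos q) h1

theorem card_points : Nat.card Ω = q ^ 3 + 1 := by
  rw [← Set.ncard_add_ncard_compl ({a} : Set Ω), h.ncard_others, Set.ncard_singleton, add_comm]

theorem injOn_smul {b : Ω} (hb : b ≠ a) : Set.InjOn (fun x : G => x • b) S := by
  intro x hx y hy e
  have h1 : y⁻¹ * x = 1 := h.eq_one_of_fix hb (S.mul_mem (S.inv_mem hy) hx) (by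
    rw [mul_smul, show x • b = y • b from e, inv_smul_smul])
  exact (inv_mul_eq_one.1 h1).symm

/-- The Sylow subgroup is transitive on the other points. -/
theorem exists_smul_eq {b x : Ω} (hb : b ≠ a) (hx : x ≠ a) : ∃ k ∈ S, k • b = x := by
  have h1 : (fun x : G => x • b) '' (S : Set G) = ({a}ᶜ : Set Ω) := by
    refine Set.eq_of_subset_of_ncard_le ?_ ?_
    · rintro _ ⟨k, hk, rfl⟩ e
      exact hb (smul_left_cancel k ((Set.mem_singleton_iff.1 e).trans (h.le hk).symm))
    · rw [(h.injOn_smul hb).ncard_image, h.ncard_others, ← Nat.card_coe_set_eq]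
      exact h.card.ge
  obtain ⟨k, hk, e⟩ := h1.ge (show x ∈ ({a}ᶜ : Set Ω) from hx)
  exact ⟨k, hk, e⟩

theorem card_two {b : Ω} (hb : b ≠ a) : Nat.card (two G a b) = (q - 1) * (q + 1) := by
  obtain ⟨s, hs⟩ := h.invAt_nonempty
  set D := two G a b with hD
  set C := Subgroup.centralizer ({s} : Set G) with hC
  choose σ hσD hσ using fun s' : invAt G a => h.act.one.exists_conj_invAt hb.symm hs s'.2
  have key : Nat.card (invAt G a × ↥(D ⊓ C)) = Nat.card D := by
    refine Nat.card_eq_of_bijective (fun p => ⟨σ p.1 * p.2, D.mul_mem (hσD p.1) p.2.2.1⟩) ⟨?_, ?_⟩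
    · rintro ⟨s₁, y₁⟩ ⟨s₂, y₂⟩ e
      have e' : σ s₁ * (y₁ : G) = σ s₂ * (y₂ : G) := congrArg Subtype.val e
      have hval : ∀ (s' : invAt G a) (y : ↥(D ⊓ C)), σ s' * y * s * (σ s' * y)⁻¹ = s' := fun s' y => by
        have hy : (y : G) * s = s * (y : G) := Subgroup.mem_centralizer_singleton_iff.1 y.2.2
        calc σ s' * y * s * (σ s' * y)⁻¹ = σ s' * ((y : G) * s) * (y : G)⁻¹ * (σ s')⁻¹ := by group
          _ = σ s' * (s * (y : G)) * (y : G)⁻¹ * (σ s')⁻¹ := by rw [hy]
          _ = σ s' * s * (σ s')⁻¹ := by group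
          _ = s' := hσ s'
      obtain rfl : s₁ = s₂ := Subtype.ext (by rw [← hval s₁ y₁, e', hval s₂ y₂])
      exact Prod.ext rfl (Subtype.ext (mul_left_cancel e'))
    · rintro ⟨d, hd⟩
      have hs' : d * s * d⁻¹ ∈ invAt G a := by
        have h1 := conj_mem_invAt (g := d) hs
        rwa [(mem_two_iff.1 hd).1] at h1
      set s' : invAt G a := ⟨_, hs'⟩
      have hy : (σ s')⁻¹ * d ∈ D ⊓ C := by
        refine ⟨D.mul_mem (D.inv_mem (hσD s')) hd, Subgroup.mem_centralizer_singleton_iff.2 ?_⟩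
        have h1 : σ s' * s * (σ s')⁻¹ = d * s * d⁻¹ := hσ s'
        calc (σ s')⁻¹ * d * s = (σ s')⁻¹ * (d * s * d⁻¹) * d := by group
          _ = (σ s')⁻¹ * (σ s' * s * (σ s')⁻¹) * d := by rw [h1]
          _ = s * ((σ s')⁻¹ * d) := by group
      exact ⟨(s', ⟨_, hy⟩), Subtype.ext (mul_inv_cancel_left _ _)⟩
  rw [← key, Nat.card_prod, Nat.card_coe_set_eq, h.act.count a, h.card_fix hb hs]

theorem card_stabilizer : Nat.card (stabilizer G a) = q ^ 3 * ((q - 1) * (q + 1)) := by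
  obtain ⟨b, hb⟩ := h.exists_ne
  rw [← h.card, ← h.card_two hb, ← Nat.card_prod]
  refine (Nat.card_eq_of_bijective (fun p : S × two G a b => (⟨(p.1 : G) * p.2,
    (stabilizer G a).mul_mem (h.le p.1.2) p.2.2.1⟩ : stabilizer G a)) ⟨?_, ?_⟩).symm
  · rintro ⟨x, d⟩ ⟨y, e⟩ hh
    have hh' : (x : G) * d = y * e := congrArg Subtype.val hh
    have hxy : x = y := Subtype.ext (h.injOn_smul hb x.2 y.2 (by
      have := congrArg (· • b) hh'
      simpa only [mul_smul, (mem_two_iff.1 d.2).2, (mem_two_iff.1 e.2).2] using this))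
    subst hxy
    exact Prod.ext rfl (Subtype.ext (mul_left_cancel hh'))
  · rintro ⟨g, hg⟩
    have hgb : g • b ≠ a := fun e => hb (smul_left_cancel g (e.trans (mem_stabilizer_iff.1 hg).symm))
    obtain ⟨k, hk, hkb⟩ := h.exists_smul_eq hb hgb
    refine ⟨(⟨k, hk⟩, ⟨k⁻¹ * g, mem_two_iff.2 ⟨?_, ?_⟩⟩), Subtype.ext (mul_inv_cancel_left _ _)⟩
    · rw [mul_smul, mem_stabilizer_iff.1 hg, inv_smul_eq_iff, mem_stabilizer_iff.1 (h.le hk)]
    · rw [mul_smul, ← hkb, inv_smul_smul]

theorem card_group : Nat.card G = (q ^ 3 + 1) * (q ^ 3 * ((q - 1) * (q + 1))) := by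
  have : IsPretransitive G Ω := ⟨h.act.one.trans⟩
  rw [← h.card_points, ← h.card_stabilizer, mul_comm, ← MulAction.index_stabilizer_of_transitive G a,
    Subgroup.card_mul_index]

/-- Whatever fixes every point is trivial. -/
theorem eq_one_of_forall_fix {g : G} (hg : ∀ x : Ω, g • x = x) : g = 1 := by
  obtain ⟨b, hb⟩ := h.exists_ne
  obtain ⟨s, hs⟩ := h.invAt_nonempty
  have hcomm : ∀ x ∈ S, g * x = x * g := fun x hx => by
    have h1 : g * x * g⁻¹ * x⁻¹ = 1 := h.eq_one_of_fix hb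
      (S.mul_mem (h.conj_mem g (hg a) x hx) (S.inv_mem hx)) (by
      rw [mul_smul, mul_smul, mul_smul]
      have hgi : ∀ y : Ω, g⁻¹ • y = y := fun y => inv_smul_eq_iff.2 (hg y).symm
      rw [hgi, hg, smul_inv_smul])
    calc g * x = g * x * g⁻¹ * x⁻¹ * (x * g) := by group
      _ = x * g := by rw [h1, one_mul]
  obtain ⟨K, -, -, hKS, hKc⟩ := h.radical s hs
  have hgC : g ∈ Subgroup.centralizer ({s} : Set G) :=
    Subgroup.mem_centralizer_singleton_iff.2 (hcomm s (h.inv_mem s hs))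
  have hgS : g ∈ S := hKS ▸ ⟨⟨g, hgC⟩, hKc (fun k hk => Subtype.ext
    (hcomm k (hKS ▸ ⟨k, hk, rfl⟩)).symm), rfl⟩
  exact h.eq_one_of_fix hb hgS (hg b)

/-- Whatever centralises `S` and a swap is trivial. -/
theorem eq_one_of_commute {b : Ω} (hb : b ≠ a) {r g : G} (hr : r ∈ swaps G a b)
    (hgS : ∀ x ∈ S, g * x = x * g) (hgr : g * r = r * g) : g = 1 := by
  obtain ⟨s, hs⟩ := h.invAt_nonempty
  obtain ⟨K, -, -, hKS, hKc⟩ := h.radical s hs
  have hgC : g ∈ Subgroup.centralizer ({s} : Set G) :=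
    Subgroup.mem_centralizer_singleton_iff.2 (hgS s (h.inv_mem s hs))
  have hg : g ∈ S := hKS ▸ ⟨⟨g, hgC⟩, hKc (fun k hk => Subtype.ext
    (hgS k (hKS ▸ ⟨k, hk, rfl⟩)).symm), rfl⟩
  refine h.eq_one_of_fix hb hg ?_
  rw [← hr.2, ← mul_smul, hgr, mul_smul, mem_stabilizer_iff.1 (h.le hg)]

theorem exists_setup : ∃ t : G, Cfsg.IsRankOneSetup G Ω a t S := by
  obtain ⟨b, hb⟩ := h.exists_ne
  have h4 := h.act.four_le
  obtain ⟨r, hr⟩ := (Set.ncard_pos (s := swaps G a b)).1 (by
    rw [h.act.one.ncard_swaps hb.symm, h.act.count a]; omega)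
  refine ⟨r, h.act.two_pretransitive, mul_self_eq_one hr.1, fun e => ?_, ?_, h.le, h.conj_mem, ?_, ?_,
    ?_, ?_⟩
  · simp [e] at hr
    exact absurd hr.1 (by simp)
  · rw [mem_stabilizer_iff, hr.2]
    exact hb
  · rw [hr.2, eq_bot_iff]
    exact fun x hx => Subgroup.mem_bot.2 (h.eq_one_of_fix hb hx.1 hx.2)
  · rw [hr.2]
    refine le_antisymm (sup_le h.le inf_le_left) fun g hg => ?_
    have hgb : g • b ≠ a := fun e => hb (smul_left_cancel g (e.trans (mem_stabilizer_iff.1 hg).symm))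
    obtain ⟨k, hk, hkb⟩ := h.exists_smul_eq hb hgb
    rw [show g = k * (k⁻¹ * g) by group]
    refine Subgroup.mul_mem_sup hk ⟨mem_stabilizer_iff.2 ?_, mem_stabilizer_iff.2 ?_⟩
    · rw [mul_smul, mem_stabilizer_iff.1 hg, inv_smul_eq_iff, mem_stabilizer_iff.1 (h.le hk)]
    · rw [mul_smul, ← hkb, inv_smul_smul]
  · obtain ⟨n, hn, hqn⟩ := h.act.pow
    rw [h.card, Nat.even_pow]
    exact ⟨hqn ▸ Nat.even_pow.2 ⟨even_two, by omega⟩, by norm_num⟩
  · rw [hr.2]
    exact h.act.one.odd_two hb.symm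

end Point

end CfsgLib.PGUThree
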