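import Cfsg.Agent.Lib.PGUThree.Setup
import Cfsg.Agent.Lib.PGUThree.Tools

/-!
Two point stabilisers when all involution centralisers look like the one of `PGU₃(q)`: the subgroup
`D₀` centralising the involutions at a point centralises those at both points and the swapping
involutions, and the centraliser of an involution is transitive away from its point.
-/

set_option autoImplicit false
set_option linter.unusedSectionVars false

namespace CfsgLib.PGUThree

open CfsgLib.BenderTrans CfsgLib.Involutions MulAction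

universe u v

variable (G : Type u) [Group G] [Finite G] (Ω : Type v) [MulAction G Ω] [Finite Ω] (q : ℕ)

/-- The configuration on the points. -/
structure Act : Prop where
  one : OneFix G Ω
  trans2 : TwoTrans G Ω
  cent : ∀ c : Ω, ∀ s ∈ invAt G c, ∀ t ∈ invAt G c,
    Subgroup.centralizer ({s} : Set G) = Subgroup.centralizer ({t} : Set G)
  count : ∀ c : Ω, (invAt G c).ncard = q - 1
  like : ∀ x : G, orderOf x = 2 → UThreeLike q (Subgroup.centralizer ({x} : Set G))
  pow : ∃ n : ℕ, 2 ≤ n ∧ q = 2 ^ n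

variable {G Ω q}

namespace Act

variable (h : Act G Ω q)
include h

theorem four_le : 4 ≤ q := by
  obtain ⟨n, hn, rfl⟩ := h.pow
  calc 4 = 2 ^ 2 := by norm_num
    _ ≤ 2 ^ n := Nat.pow_le_pow_right (by norm_num) hn

theorem odd_pred : Odd (q - 1) := by
  obtain ⟨n, hn, rfl⟩ := h.pow
  exact Nat.Even.sub_odd (Nat.one_le_two_pow) (Nat.even_pow.2 ⟨even_two, by omega⟩) odd_one

theorem stab_of_commute {c : Ω} {s g : G} (hs : s ∈ invAt G c) (hg : Commute g s) : g • c = c :=
  h.one.fix_of_commute hs hg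

/-- An element of prime power order of a two point stabiliser that centralises the involutions at
one of the points commutes with an involution exchanging the two points. -/
theorem exists_swap_commute {a b : Ω} (hab : a ≠ b) {s y : G} (hs : s ∈ invAt G a)
    (hy : y ∈ two G a b) (hys : Commute y s) {p k : ℕ} (hp : p.Prime) (hk : orderOf y = p ^ k) :
    ∃ r ∈ swaps G a b, Commute y r := by
  classical
  have hkey : ∀ r ∈ swaps G a b, ∀ g ∈ two G a b, g * r * g⁻¹ ∈ swaps G a b := fun r hr g hg => by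
    have h1 := conj_mem_swaps (g := g) hr
    rwa [(mem_two_iff.1 hg).1, (mem_two_iff.1 hg).2] at h1
  have hne : (swaps G a b).ncard = q - 1 := by rw [h.one.ncard_swaps hab, h.count a]
  rcases Nat.eq_zero_or_pos k with rfl | hk0
  · have h4 := h.four_le
    obtain ⟨r, hr⟩ := (Set.ncard_pos (s := swaps G a b)).1 (by omega)
    have hy1 : y = 1 := orderOf_eq_one_iff.1 (by simpa using hk)
    exact ⟨r, hr, by rw [hy1]; exact Commute.one_left r⟩
  have : Fintype (swaps G a b) := Fintype.ofFinite _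
  have : Fact p.Prime := ⟨hp⟩
  have hpq : ¬ p ∣ q - 1 := by
    have hodd : Odd (orderOf y) := by
      obtain ⟨m, hm⟩ := orderOf_dvd_natCard (⟨y, hy⟩ : two G a b)
      rw [Subgroup.orderOf_mk] at hm
      exact Nat.Odd.of_mul_left (hm ▸ h.one.odd_two hab)
    have hd : orderOf y ∣ q ^ 3 * (q + 1) := by
      rw [← (h.like s hs.1).card]
      exact (Subgroup.orderOf_mk y _) ▸ orderOf_dvd_natCard
        (⟨y, Subgroup.mem_centralizer_singleton_iff.2 hys.eq⟩ : Subgroup.centralizer ({s} : Set G))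
    obtain ⟨n, -, hn⟩ := h.pow
    have hd' : orderOf y ∣ q + 1 := by
      refine Nat.Coprime.dvd_of_dvd_mul_left ?_ hd
      rw [hn, ← pow_mul]
      exact Nat.Coprime.pow_right _ hodd.coprime_two_right
    intro hp1
    have h1 : p ∣ orderOf y := hk ▸ dvd_pow_self p hk0.ne'
    have h2 : p ∣ q + 1 := h1.trans hd'
    have h3 : p ∣ 2 := by
      have := Nat.dvd_sub h2 hp1
      have h4 := h.four_le
      rwa [show q + 1 - (q - 1) = 2 by omega] at this
    have hp2 : p = 2 := (Nat.prime_dvd_prime_iff_eq hp Nat.prime_two).1 h3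
    exact (hp2 ▸ hodd.not_two_dvd_nat) h1
  let σ : Equiv.Perm (swaps G a b) :=
    { toFun := fun r => ⟨y * r * y⁻¹, hkey r r.2 y hy⟩
      invFun := fun r => ⟨y⁻¹ * r * y, by simpa using hkey r r.2 y⁻¹ ((two G a b).inv_mem hy)⟩
      left_inv := fun r => Subtype.ext (by group)
      right_inv := fun r => Subtype.ext (by group) }
  have hpow : ∀ (m : ℕ) (r : swaps G a b), (((σ ^ m) r : swaps G a b) : G) = y ^ m * r * (y ^ m)⁻¹ := by
    intro m
    induction m with
    | zero => intro r; simp
    | succ m ih =>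
      intro r
      rw [pow_succ', Equiv.Perm.mul_apply]
      show y * _ * y⁻¹ = _
      rw [ih]
      group
  obtain ⟨r, hr⟩ := Equiv.Perm.exists_fixed_point_of_prime (p := p) (n := k) (σ := σ)
    (by rwa [← Nat.card_eq_fintype_card, Nat.card_coe_set_eq, hne])
    (Equiv.ext fun r => Subtype.ext (by
      rw [hpow, ← hk, pow_orderOf_eq_one]
      simp))
  exact ⟨r, r.2, mul_inv_eq_iff_eq_mul.1 (congrArg Subtype.val hr)⟩

/-- What fixes two points and centralises the involutions at one centralises those at the other. -/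
theorem commute_other {a b : Ω} (hab : a ≠ b) {s t y : G} (hs : s ∈ invAt G a) (ht : t ∈ invAt G b)
    (hy : y ∈ two G a b) (hys : Commute y s) : Commute y t := by
  refine (Subgroup.mem_centralizer_singleton_iff.1 (le_of_forall_prime_pow
    (A := two G a b ⊓ Subgroup.centralizer ({s} : Set G)) (X := Subgroup.centralizer ({t} : Set G)) ?_
    ⟨hy, Subgroup.mem_centralizer_singleton_iff.2 hys.eq⟩) :)
  rintro x ⟨hx2, hxs⟩ p k hp hk
  have hxs' : Commute x s := Subgroup.mem_centralizer_singleton_iff.1 hxs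
  obtain ⟨r, hr, hxr⟩ := h.exists_swap_commute hab hs hx2 hxs' hp hk
  have ht' : r * s * r⁻¹ ∈ invAt G b := by
    have h1 := conj_mem_invAt (g := r) hs
    rwa [hr.2] at h1
  rw [h.cent b t ht _ ht', Subgroup.mem_centralizer_singleton_iff]
  exact ((hxr.mul_right hxs').mul_right hxr.inv_right).eq

/-- The part of a two point stabiliser centralising the involutions at the first point is cyclic of
order dividing `q + 1`. -/
theorem cyclic_fix {a b : Ω} (hab : a ≠ b) {s : G} (hs : s ∈ invAt G a) :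
    IsCyclic ↥(two G a b ⊓ Subgroup.centralizer ({s} : Set G)) ∧
      Nat.card ↥(two G a b ⊓ Subgroup.centralizer ({s} : Set G)) ∣ q + 1 := by
  obtain ⟨K, hKn, hK, hcyc, -⟩ := (h.like s hs.1).radical
  set D0 := two G a b ⊓ Subgroup.centralizer ({s} : Set G) with hD0
  let f : D0 →* (↥(Subgroup.centralizer ({s} : Set G)) ⧸ K) :=
    (QuotientGroup.mk' K).comp (Subgroup.inclusion inf_le_right)
  have hf : Function.Injective f := (injective_iff_map_eq_one f).2 fun x hx => by
    have h1 : Subgroup.inclusion inf_le_right x ∈ K := (QuotientGroup.eq_one_iff _).1 hx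
    have h2 : orderOf (x : G) ∣ q ^ 3 := by
      have h3 := orderOf_dvd_natCard (⟨_, h1⟩ : K)
      rwa [Subgroup.orderOf_mk, hK, ← Subgroup.orderOf_coe, Subgroup.coe_inclusion] at h3
    have h4 : orderOf (x : G) ∣ Nat.card (two G a b) := by
      have h3 := orderOf_dvd_natCard (⟨(x : G), x.2.1⟩ : two G a b)
      rwa [Subgroup.orderOf_mk] at h3
    obtain ⟨n, -, hn⟩ := h.pow
    rw [hn, ← pow_mul] at h2
    have h5 : orderOf (x : G) = 1 := Nat.eq_one_of_dvd_coprimes
      (Nat.Coprime.pow_left _ (h.one.odd_two hab).coprime_two_left) h2 h4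
    exact Subtype.ext (orderOf_eq_one_iff.1 h5)
  refine ⟨isCyclic_of_injective f hf, ?_⟩
  have h1 : Nat.card (↥(Subgroup.centralizer ({s} : Set G)) ⧸ K) = q + 1 := by
    have h2 := Subgroup.card_eq_card_quotient_mul_card_subgroup K
    rw [(h.like s hs.1).card, hK, mul_comm (q ^ 3)] at h2
    exact (Nat.eq_of_mul_eq_mul_right (by have := h.four_le; positivity) h2).symm
  exact h1 ▸ Subgroup.card_dvd_of_injective f hf

/-- Every involution exchanging the two points centralises that part. -/
theorem commute_swap {a b : Ω} (hab : a ≠ b) {s r : G} (hs : s ∈ invAt G a)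
    (hr : r ∈ swaps G a b) {y : G} (hy : y ∈ two G a b) (hys : Commute y s) : Commute y r := by
  refine (Subgroup.mem_centralizer_singleton_iff.1 (le_of_forall_prime_pow
    (A := two G a b ⊓ Subgroup.centralizer ({s} : Set G)) (X := Subgroup.centralizer ({r} : Set G)) ?_
    ⟨hy, Subgroup.mem_centralizer_singleton_iff.2 hys.eq⟩) :)
  rintro x hx p k hp hk
  obtain ⟨r₀, hr₀, hxr⟩ := h.exists_swap_commute hab hs hx.1
    (Subgroup.mem_centralizer_singleton_iff.1 hx.2) hp hk
  set d := r₀ * r with hd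
  have hdD : d ∈ two G a b := mem_two_iff.2
    ⟨by rw [hd, mul_smul, hr.2, swaps_symm hr₀], by rw [hd, mul_smul, swaps_symm hr, hr₀.2]⟩
  have hmem : d * x * d⁻¹ ∈ two G a b ⊓ Subgroup.centralizer ({s} : Set G) := by
    refine ⟨(two G a b).mul_mem ((two G a b).mul_mem hdD hx.1) ((two G a b).inv_mem hdD), ?_⟩
    have hs' : d * s * d⁻¹ ∈ invAt G a := by
      have h1 := conj_mem_invAt (g := d) hs
      rwa [(mem_two_iff.1 hdD).1] at h1
    rw [h.cent a s hs _ hs']
    have e := Subgroup.mem_centralizer_singleton_iff.1 hx.2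
    refine Subgroup.mem_centralizer_singleton_iff.2 ?_
    calc d * x * d⁻¹ * (d * s * d⁻¹) = d * (x * s) * d⁻¹ := by group
      _ = d * (s * x) * d⁻¹ := by rw [e]
      _ = d * s * d⁻¹ * (d * x * d⁻¹) := by group
  have := (h.cyclic_fix hab hs).1
  have hz : (⟨_, hmem⟩ : ↥(two G a b ⊓ Subgroup.centralizer ({s} : Set G))) ∈
      Subgroup.zpowers (⟨x, hx⟩ : ↥(two G a b ⊓ Subgroup.centralizer ({s} : Set G))) :=
    mem_zpowers_of_orderOf_dvd (by rw [Subgroup.orderOf_mk, Subgroup.orderOf_mk, orderOf_conj_eq])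
  obtain ⟨i, hi⟩ := Subgroup.mem_zpowers_iff.1 hz
  have hi' : x ^ i = d * x * d⁻¹ := by simpa using congrArg Subtype.val hi
  have h0 : r₀ * r₀ = 1 := mul_self_eq_one hr₀.1
  have h00 : r₀⁻¹ = r₀ := inv_eq_self_of_involution hr₀.1
  have hrd : r = r₀ * d := by rw [hd, ← mul_assoc, h0, one_mul]
  have hrx : r * x * r⁻¹ = d * x * d⁻¹ := by
    rw [hrd, mul_inv_rev, show r₀ * d * x * (d⁻¹ * r₀⁻¹) = r₀ * (d * x * d⁻¹) * r₀⁻¹ by group, ← hi']
    exact mul_inv_eq_iff_eq_mul.2 (hxr.zpow_left i).eq.symm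
  have hrr : r * r = 1 := mul_self_eq_one hr.1
  have h2 : Commute (d * d) x := by
    have e1 : r * (d * x * d⁻¹) * r⁻¹ = x := by
      rw [← hrx, show r * (r * x * r⁻¹) * r⁻¹ = (r * r) * x * (r * r)⁻¹ by group, hrr]
      simp
    have e2 : r * (d * x * d⁻¹) * r⁻¹ = (d * d) * x * (d * d)⁻¹ := by
      have e3 : r * (x ^ i) * r⁻¹ = d * x ^ i * d⁻¹ := by
        rw [← conj_zpow, hrx, conj_zpow]
      rw [← hi', e3, hi']
      group
    exact mul_inv_eq_iff_eq_mul.1 (e2.symm.trans e1)
  have hdx : Commute d x := by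
    obtain ⟨m, hm⟩ : Odd (orderOf d) := by
      obtain ⟨l, hl⟩ := orderOf_dvd_natCard (⟨d, hdD⟩ : two G a b)
      rw [Subgroup.orderOf_mk] at hl
      exact Nat.Odd.of_mul_left (hl ▸ h.one.odd_two hab)
    have e : d = (d * d) ^ (m + 1) := by
      rw [← pow_two, ← pow_mul, show 2 * (m + 1) = orderOf d + 1 by omega, pow_succ, pow_orderOf_eq_one,
        one_mul]
    rw [e]
    exact h2.pow_left _
  refine Subgroup.mem_centralizer_singleton_iff.2 ?_
  rw [hrd]
  exact (hxr.mul_right hdx.symm).eq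

/-- The centraliser of an involution is transitive on the points other than its own. -/
theorem exists_smul {a b b' : Ω} (hb : b ≠ a) (hb' : b' ≠ a) {s : G} (hs : s ∈ invAt G a) :
    ∃ g, Commute g s ∧ g • b = b' := by
  obtain ⟨g, hga, hgb⟩ := h.trans2 a b b' hb hb'
  have hs' : g⁻¹ * s * g ∈ invAt G a := by
    have h1 := conj_mem_invAt (g := g⁻¹) hs
    rw [inv_inv, inv_smul_eq_iff.2 hga.symm] at h1
    exact h1
  obtain ⟨d, hd, hds⟩ := h.one.exists_conj_invAt hb.symm hs hs'
  refine ⟨g * d, ?_, by rw [mul_smul, (mem_two_iff.1 hd).2, hgb]⟩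
  have : g * d * s * (g * d)⁻¹ = s := by
    rw [show g * d * s * (g * d)⁻¹ = g * (d * s * d⁻¹) * g⁻¹ by group, hds]
    group
  exact mul_inv_eq_iff_eq_mul.1 this

end Act

end CfsgLib.PGUThree
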