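import Cfsg.Agent.Lib.PGUThree.Pairs
import Cfsg.Agent.Lib.RankOneTwo.Main
import Cfsg.Agent.Lib.Coprime.Action
import Cfsg.Agent.S0205

/-!
A group whose involution centralisers look like the one of `PGU₃(q)` acts faithfully on its Sylow
2-subgroups as a rank one group with regular subgroup a Sylow 2-subgroup.
-/

set_option autoImplicit false
set_option linter.unusedSectionVars false

namespace CfsgLib.PGUThree

open CfsgLib.BenderTrans CfsgLib.Involutions MulAction

universe u v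

variable {G : Type u} [Group G] [Finite G] {q : ℕ}

theorem Act.two_pretransitive {Ω : Type v} [MulAction G Ω] [Finite Ω] (h : Act G Ω q) :
    IsMultiplyPretransitive G Ω 2 := by
  rw [MulAction.is_two_pretransitive_iff]
  intro a b c d hab hcd
  obtain ⟨g, hg⟩ := h.one.trans a c
  have hne : g • b ≠ c := fun e => hab (smul_left_cancel g (hg.trans e.symm))
  obtain ⟨g', hg1, hg2⟩ := h.trans2 c (g • b) d hne hcd.symm
  exact ⟨g' * g, by rw [mul_smul, hg, hg1], by rw [mul_smul, hg2]⟩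

/-- The data at a point: a 2-group normal in the stabiliser, centralised by the involutions there. -/
structure Point (G : Type u) [Group G] [Finite G] (Ω : Type v) [MulAction G Ω] [Finite Ω] (q : ℕ)
    (a : Ω) (S : Subgroup G) : Prop where
  act : Act G Ω q
  le : S ≤ stabilizer G a
  conj_mem : ∀ g ∈ stabilizer G a, ∀ x ∈ S, g * x * g⁻¹ ∈ S
  card : Nat.card S = q ^ 3
  le_cent : ∀ s ∈ invAt G a, S ≤ Subgroup.centralizer ({s} : Set G)
  radical : ∀ s ∈ invAt G a, ∃ K : Subgroup ↥(Subgroup.centralizer ({s} : Set G)), ∃ _ : K.Normal,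
    IsCyclic (↥(Subgroup.centralizer ({s} : Set G)) ⧸ K) ∧
    K.map (Subgroup.centralizer ({s} : Set G)).subtype = S ∧
    Subgroup.centralizer (K : Set ↥(Subgroup.centralizer ({s} : Set G))) ≤ K
  inv_mem : ∀ s ∈ invAt G a, s ∈ S

namespace Point

variable {Ω : Type v} [MulAction G Ω] [Finite Ω] {a : Ω} {S : Subgroup G} (h : Point G Ω q a S)
include h

theorem isPGroup : IsPGroup 2 S := by
  obtain ⟨n, -, hn⟩ := h.act.pow
  exact IsPGroup.of_card (n := n * 3) (by rw [h.card, hn, pow_mul])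

theorem eq_one_of_fix {b : Ω} (hb : b ≠ a) {x : G} (hx : x ∈ S) (hxb : x • b = b) : x = 1 := by
  have h1 : orderOf x ∣ Nat.card (two G a b) := by
    have h3 := orderOf_dvd_natCard (⟨x, mem_two_iff.2 ⟨h.le hx, hxb⟩⟩ : two G a b)
    rwa [Subgroup.orderOf_mk] at h3
  have h2 : orderOf x ∣ q ^ 3 := by
    have h3 := orderOf_dvd_natCard (⟨x, hx⟩ : S)
    rwa [Subgroup.orderOf_mk, h.card] at h3
  obtain ⟨n, -, hn⟩ := h.act.pow
  rw [hn, ← pow_mul] at h2
  exact orderOf_eq_one_iff.1 (Nat.eq_one_of_dvd_coprimes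
    (Nat.Coprime.pow_left _ (h.act.one.odd_two hb.symm).coprime_two_left) h2 h1)

theorem card_quotient {s : G} (hs : s ∈ invAt G a)
    {K : Subgroup ↥(Subgroup.centralizer ({s} : Set G))}
    (hKS : K.map (Subgroup.centralizer ({s} : Set G)).subtype = S) :
    Nat.card (↥(Subgroup.centralizer ({s} : Set G)) ⧸ K) = q + 1 := by
  have hK : Nat.card K = q ^ 3 := by
    rw [← Subgroup.card_map_of_injective (Subgroup.subtype_injective _), hKS, h.card]
  have h2 := Subgroup.card_eq_card_quotient_mul_card_subgroup K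
  rw [(h.act.like s hs.1).card, hK, mul_comm (q ^ 3)] at h2
  exact (Nat.eq_of_mul_eq_mul_right (by have := h.act.four_le; positivity) h2).symm

/-- An element of odd order centralising `D₀` and the involutions at `a` fixes `b`: in the action of
`C(D₀)` on the points fixed by `D₀` the part centralising those involutions is a regular 2-group. -/
theorem fix_of_rankOne {b : Ω} (hb : b ≠ a) {s : G} (hs : s ∈ invAt G a) {y : G}
    (hyC : y ∈ Subgroup.centralizer ({s} : Set G)) (hodd : Odd (orderOf y))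
    (hyD : ∀ d ∈ two G a b ⊓ Subgroup.centralizer ({s} : Set G), Commute y d) : y • b = b := by
  set C := Subgroup.centralizer ({s} : Set G) with hC
  obtain ⟨K, hKn, hcyc, hKS, -⟩ : ∃ K : Subgroup C, ∃ _ : K.Normal, IsCyclic (↥C ⧸ K) ∧
      K.map C.subtype = S ∧ Subgroup.centralizer (K : Set C) ≤ K := h.radical s hs
  set D0 := two G a b ⊓ C with hD0
  set M := Subgroup.centralizer (D0 : Set G) with hM
  set Φ := fixSet Ω D0 with hΦ
  have haΦ : a ∈ Φ := fun d hd => (mem_two_iff.1 hd.1).1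
  have hbΦ : b ∈ Φ := fun d hd => (mem_two_iff.1 hd.1).2
  have hsM : s ∈ M := fun d hd => Subgroup.mem_centralizer_singleton_iff.1 hd.2
  have hM' : ∀ m ∈ M, ∀ z ∈ Φ, m • z ∈ Φ := fun m hm z hz =>
    smul_mem_fixSet (Subgroup.centralizer_le_normalizer (D0 : Set G) hm) hz
  letI : MulAction M Φ :=
    { smul := fun m z => ⟨(m : G) • (z : Ω), hM' m m.2 z z.2⟩
      one_smul := fun z => Subtype.ext (one_smul G (z : Ω))
      mul_smul := fun m m' z => Subtype.ext (mul_smul (m : G) (m' : G) (z : Ω)) }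
  let f : M →* Equiv.Perm Φ := MulAction.toPermHom M Φ
  have hf : ∀ (m : M) (z : Φ), ((f m z : Φ) : Ω) = (m : G) • (z : Ω) := fun _ _ => rfl
  let a' : Φ := ⟨a, haΦ⟩
  let b' : Φ := ⟨b, hbΦ⟩
  -- transitivity of the part centralising `s`
  have htr : ∀ z ∈ Φ, z ≠ a → ∃ g ∈ C ⊓ M, g • b = z := by
    intro z hz hza
    obtain ⟨g, hgs, hgb⟩ := h.act.exists_smul hb hza hs
    have hgC : g ∈ C := Subgroup.mem_centralizer_singleton_iff.2 hgs.eq
    refine ⟨g, ⟨hgC, fun d hd => ?_⟩, hgb⟩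
    have hgd : g⁻¹ * d * g ∈ D0 := by
      have hm : g⁻¹ * d * g ∈ C := C.mul_mem (C.mul_mem (C.inv_mem hgC) hd.2) hgC
      refine ⟨mem_two_iff.2 ⟨h.act.stab_of_commute hs (Subgroup.mem_centralizer_singleton_iff.1 hm), ?_⟩, hm⟩
      rw [mul_smul, mul_smul, hgb, hz d hd, inv_smul_eq_iff, hgb]
    have := hcyc
    have hab : IsMulCommutative (↥C ⧸ K) := IsCyclic.isMulCommutative
    have hmemC : (d⁻¹ * (g⁻¹ * d * g)) ∈ C := C.mul_mem (C.inv_mem hd.2) hgd.2
    have hK : (⟨_, hmemC⟩ : C) ∈ K := by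
      have e : (⟨_, hmemC⟩ : C) = ⟨d, hd.2⟩⁻¹ * (⟨g, hgC⟩⁻¹ * ⟨d, hd.2⟩ * ⟨g, hgC⟩) := Subtype.ext rfl
      rw [e, ← QuotientGroup.eq_one_iff, QuotientGroup.mk_mul, QuotientGroup.mk_mul, QuotientGroup.mk_mul,
        QuotientGroup.mk_inv, QuotientGroup.mk_inv, mul_assoc (_⁻¹ : ↥C ⧸ K), mul_comm' (QuotientGroup.mk _ : ↥C ⧸ K),
        inv_mul_cancel_left, inv_mul_cancel]
    have h1 : d⁻¹ * (g⁻¹ * d * g) = 1 := h.eq_one_of_fix hb (hKS ▸ ⟨_, hK, rfl⟩)
      (mem_two_iff.1 ((two G a b).mul_mem ((two G a b).inv_mem hd.1) hgd.1)).2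
    calc d * g = g * (g⁻¹ * d * g) := by group
      _ = g * (d * (d⁻¹ * (g⁻¹ * d * g))) := by group
      _ = g * d := by rw [h1, mul_one]
  -- a swapping involution centralising `D₀`
  obtain ⟨r, hr⟩ : (swaps G a b).Nonempty := (Set.ncard_pos).1 (by
    rw [h.act.one.ncard_swaps hb.symm, h.act.count a]
    have := h.act.four_le
    omega)
  have hrM : r ∈ M := fun d hd =>
    (h.act.commute_swap hb.symm hs hr hd.1 (Subgroup.mem_centralizer_singleton_iff.1 hd.2)).eq
  let t : f.range := ⟨f ⟨r, hrM⟩, ⟨_, rfl⟩⟩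
  have hta : t • a' = b' := Subtype.ext hr.2
  let Q : Subgroup f.range := (C.subgroupOf M).map f.rangeRestrict
  have hQ : ∀ g ∈ Q, ∃ m : M, (m : G) ∈ C ∧ f.rangeRestrict m = g := fun g ⟨m, hm, e⟩ => ⟨m, hm, e⟩
  have hsQ : f.rangeRestrict ⟨s, hsM⟩ ∈ Q :=
    ⟨_, Subgroup.mem_centralizer_singleton_iff.2 rfl, rfl⟩
  have hinv : ∀ u : G, ∀ hu : u ∈ M, u ∈ invAt G a →
      f.rangeRestrict ⟨u, hu⟩ ≠ 1 ∧ f.rangeRestrict ⟨u, hu⟩ * f.rangeRestrict ⟨u, hu⟩ = 1 := by
    intro u hu hua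
    refine ⟨fun e => hb (h.act.one.unique u hua.1 b a ?_ hua.2), ?_⟩
    · exact congrArg (fun g : f.range => (((g : Equiv.Perm Φ) b' : Φ) : Ω)) e
    · rw [← map_mul, show (⟨u, hu⟩ : M) * ⟨u, hu⟩ = 1 from Subtype.ext (mul_self_eq_one hua.1), map_one]
  have hS : Cfsg.IsRankOneSetup f.range Φ a' t Q := by
    refine ⟨?_, ?_, ?_, ?_, ?_, ?_, ?_, ?_, ?_, ?_⟩
    · rw [MulAction.is_two_pretransitive_iff]
      -- every ordered pair is the image of `(a, b)`
      have key : ∀ x z : Φ, x ≠ z → ∃ g : f.range, g • a' = x ∧ g • b' = z := by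
        intro x z hxz
        obtain ⟨m, hmM, hma⟩ : ∃ m ∈ M, m • a = (x : Ω) := by
          by_cases hxa : (x : Ω) = a
          · exact ⟨1, M.one_mem, by rw [one_smul, hxa]⟩
          · obtain ⟨g, hg, hgb⟩ := htr x x.2 hxa
            exact ⟨g * r, M.mul_mem hg.2 hrM, by rw [mul_smul, hr.2, hgb]⟩
        have hz : m⁻¹ • (z : Ω) ∈ Φ := hM' _ (M.inv_mem hmM) _ z.2
        have hza : m⁻¹ • (z : Ω) ≠ a := fun e => hxz (Subtype.ext (by rw [← hma, ← e, smul_inv_smul]))
        obtain ⟨g, hg, hgb⟩ := htr _ hz hza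
        refine ⟨f.rangeRestrict ⟨m * g, M.mul_mem hmM hg.2⟩, Subtype.ext ?_, Subtype.ext ?_⟩
        · show (m * g) • a = _
          rw [mul_smul, h.act.stab_of_commute hs (Subgroup.mem_centralizer_singleton_iff.1 hg.1), hma]
        · show (m * g) • b = _
          rw [mul_smul, hgb, smul_inv_smul]
      intro x z x' z' hxz hxz'
      obtain ⟨g, hg1, hg2⟩ := key x z hxz
      obtain ⟨g', hg1', hg2'⟩ := key x' z' hxz'
      exact ⟨g' * g⁻¹, by rw [← hg1, mul_smul, inv_smul_smul, hg1'],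
        by rw [← hg2, mul_smul, inv_smul_smul, hg2']⟩
    · exact Subtype.ext (by
        show f ⟨r, hrM⟩ * f ⟨r, hrM⟩ = 1
        rw [← map_mul, show (⟨r, hrM⟩ : M) * ⟨r, hrM⟩ = 1 from Subtype.ext (mul_self_eq_one hr.1), map_one])
    · exact fun e => hb (by
        have h1 : t • a' = a' := by rw [e, one_smul]
        rw [hta] at h1
        exact congrArg Subtype.val h1)
    · exact fun e => hb (by
        rw [mem_stabilizer_iff, hta] at e
        exact congrArg Subtype.val e)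
    · intro g hg
      obtain ⟨m, hm, rfl⟩ := hQ g hg
      exact Subtype.ext (h.act.stab_of_commute hs (Subgroup.mem_centralizer_singleton_iff.1 hm))
    · intro g hg x hx
      obtain ⟨_, m, rfl⟩ := g
      obtain ⟨m', hm', rfl⟩ := hQ x hx
      refine ⟨m * m' * m⁻¹, ?_, ?_⟩
      · have hma : (m : G) • a = a := congrArg Subtype.val hg
        have hs' : (m : G) * s * (m : G)⁻¹ ∈ invAt G a := by
          have h1 := conj_mem_invAt (g := (m : G)) hs
          rwa [hma] at h1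
        show (m : G) * (m' : G) * (m : G)⁻¹ ∈ C
        rw [hC, h.act.cent a s hs _ hs', Subgroup.mem_centralizer_singleton_iff]
        have e := Subgroup.mem_centralizer_singleton_iff.1 hm'
        calc (m : G) * m' * (m : G)⁻¹ * ((m : G) * s * (m : G)⁻¹) = m * (m' * s) * (m : G)⁻¹ := by group
          _ = m * (s * m') * (m : G)⁻¹ := by rw [e]
          _ = _ := by group
      · rw [map_mul, map_mul, map_inv]
        rfl
    · rw [hta, Subgroup.eq_bot_iff_forall]
      rintro g ⟨hg, hgb⟩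
      obtain ⟨m, hm, rfl⟩ := hQ g hg
      have hmb : (m : G) • b = b := congrArg Subtype.val hgb
      have hmD : (m : G) ∈ D0 := ⟨mem_two_iff.2
        ⟨h.act.stab_of_commute hs (Subgroup.mem_centralizer_singleton_iff.1 hm), hmb⟩, hm⟩
      exact Subtype.ext (Equiv.ext fun z => Subtype.ext (z.2 _ hmD))
    · rw [hta]
      refine le_antisymm (sup_le (fun g hg => ?_) inf_le_left) fun g hg => ?_
      · obtain ⟨m, hm, rfl⟩ := hQ g hg
        exact Subtype.ext (h.act.stab_of_commute hs (Subgroup.mem_centralizer_singleton_iff.1 hm))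
      · obtain ⟨_, m, rfl⟩ := g
        have hma : (m : G) • a = a := congrArg Subtype.val hg
        have hmb : (m : G) • b ∈ Φ := hM' _ m.2 _ hbΦ
        have hne : (m : G) • b ≠ a := fun e => hb (smul_left_cancel _ (e.trans hma.symm))
        obtain ⟨g', hg', hgb'⟩ := htr _ hmb hne
        have e : (⟨f m, ⟨m, rfl⟩⟩ : f.range) =
            f.rangeRestrict ⟨g', hg'.2⟩ * f.rangeRestrict (⟨g', hg'.2⟩⁻¹ * m) := by
          rw [← map_mul, mul_inv_cancel_left]
          rfl
        rw [e]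
        refine Subgroup.mul_mem_sup ⟨_, hg'.1, rfl⟩ ⟨Subtype.ext ?_, Subtype.ext ?_⟩
        · show (g'⁻¹ * (m : G)) • a = a
          rw [mul_smul, hma, inv_smul_eq_iff,
            h.act.stab_of_commute hs (Subgroup.mem_centralizer_singleton_iff.1 hg'.1)]
        · show (g'⁻¹ * (m : G)) • b = b
          rw [mul_smul, inv_smul_eq_iff, hgb']
    · refine even_iff_two_dvd.2 ?_
      have h1 : orderOf (f.rangeRestrict ⟨s, hsM⟩) = 2 :=
        orderOf_eq_prime (by rw [pow_two]; exact (hinv s hsM hs).2) (hinv s hsM hs).1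
      rw [← h1, ← Subgroup.orderOf_mk _ hsQ]
      exact orderOf_dvd_natCard _
    · rw [hta]
      rw [← Nat.not_even_iff_odd]
      intro he
      haveI : Fact (Nat.Prime 2) := ⟨Nat.prime_two⟩
      obtain ⟨g, hg⟩ := exists_prime_orderOf_dvd_card' (G := _) 2 he.two_dvd
      obtain ⟨m, hm⟩ := g.1.2
      have hma : (m : G) • a = a := by
        rw [← hf m a', hm]
        exact congrArg Subtype.val g.2.1
      have hmb : (m : G) • b = b := by
        rw [← hf m b', hm]
        exact congrArg Subtype.val g.2.2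
      have h1 : orderOf g ∣ orderOf (m : G) := by
        rw [← Subgroup.orderOf_coe, ← Subgroup.orderOf_coe g.1, ← hm, Subgroup.orderOf_coe m]
        exact orderOf_map_dvd f m
      have h2 : orderOf (m : G) ∣ Nat.card (two G a b) := by
        have h3 := orderOf_dvd_natCard (⟨(m : G), mem_two_iff.2 ⟨hma, hmb⟩⟩ : two G a b)
        rwa [Subgroup.orderOf_mk] at h3
      rw [hg] at h1
      exact (h.act.one.odd_two hb.symm).not_two_dvd_nat (h1.trans h2)
  obtain ⟨u, hu, hus⟩ := Set.exists_ne_of_one_lt_ncard (s := invAt G a) (by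
    rw [h.act.count a]
    have := h.act.four_le
    omega) s
  have huC : u ∈ C := by
    rw [hC, h.act.cent a s hs u hu]
    exact Subgroup.mem_centralizer_singleton_iff.2 rfl
  have huM : u ∈ M := fun d hd => by
    have := hd.2
    rw [hC, h.act.cent a s hs u hu] at this
    exact Subgroup.mem_centralizer_singleton_iff.1 this
  have h4 : ∃ x z : f.range, x ≠ 1 ∧ z ≠ 1 ∧ x ≠ z ∧ x * x = 1 ∧ z * z = 1 ∧ x * z = z * x := by
    refine ⟨f.rangeRestrict ⟨s, hsM⟩, f.rangeRestrict ⟨u, huM⟩, (hinv s hsM hs).1, (hinv u huM hu).1,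
      fun e => ?_, (hinv s hsM hs).2, (hinv u huM hu).2, ?_⟩
    · have h1 : (s⁻¹ * u) • b = b := by
        have h2 : s • b = u • b :=
          congrArg (fun g : f.range => (((g : Equiv.Perm Φ) b' : Φ) : Ω)) e
        rw [mul_smul, ← h2, inv_smul_smul]
      exact hus (inv_mul_eq_one.1 (h.eq_one_of_fix hb (S.mul_mem (S.inv_mem (h.inv_mem s hs)) (h.inv_mem u hu)) h1)).symm
    · rw [← map_mul, ← map_mul]
      exact congrArg _ (Subtype.ext (Subgroup.mem_centralizer_singleton_iff.1 huC).symm)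
  have hQ2 := CfsgLib.RankOneTwo.isPGroup_two_Q hS h4
  have hyM : y ∈ M := fun d hd => (hyD d hd).symm.eq
  have hyQ : f.rangeRestrict ⟨y, hyM⟩ ∈ Q :=
    Subgroup.mem_map_of_mem _ (show (⟨y, hyM⟩ : M) ∈ C.subgroupOf M from hyC)
  obtain ⟨j, hj⟩ := IsPGroup.iff_orderOf.1 hQ2 ⟨_, hyQ⟩
  rw [← Subgroup.orderOf_coe] at hj
  change orderOf (f.rangeRestrict ⟨y, hyM⟩) = 2 ^ j at hj
  have h1 : orderOf (f.rangeRestrict ⟨y, hyM⟩) ∣ orderOf y := by
    rw [← Subgroup.orderOf_mk y hyM]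
    exact orderOf_map_dvd f.rangeRestrict ⟨y, hyM⟩
  have h2 : f.rangeRestrict ⟨y, hyM⟩ = 1 := orderOf_eq_one_iff.1 (Nat.eq_one_of_dvd_coprimes
    (hj ▸ Nat.Coprime.pow_left j hodd.coprime_two_left) dvd_rfl h1)
  exact congrArg (fun g : f.range => (((g : Equiv.Perm Φ) b' : Φ) : Ω)) h2

open scoped Classical in
theorem card_fix {b : Ω} (hb : b ≠ a) {s : G} (hs : s ∈ invAt G a) :
    Nat.card ↥(two G a b ⊓ Subgroup.centralizer ({s} : Set G)) = q + 1 := by
  obtain ⟨hcyc0, hdvd⟩ := h.act.cyclic_fix hb.symm hs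
  set C := Subgroup.centralizer ({s} : Set G) with hC
  obtain ⟨K, hKn, hcyc, hKS, -⟩ : ∃ K : Subgroup C, ∃ _ : K.Normal, IsCyclic (↥C ⧸ K) ∧
      K.map C.subtype = S ∧ Subgroup.centralizer (K : Set C) ≤ K := h.radical s hs
  have hq1 : Nat.card (↥C ⧸ K) = q + 1 := h.card_quotient hs hKS
  set D0 := two G a b ⊓ C with hD0
  refine Nat.dvd_antisymm hdvd ?_
  -- an element of order `q + 1`
  obtain ⟨x0, hx0⟩ := IsCyclic.exists_ofOrder_eq_natCard (α := ↥C ⧸ K)
  obtain ⟨c0, rfl⟩ := QuotientGroup.mk'_surjective K x0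
  have hd1 : q + 1 ∣ orderOf c0 := by
    rw [← hq1, ← hx0]
    exact orderOf_map_dvd _ _
  set x : C := c0 ^ (orderOf c0 / (q + 1)) with hx
  have hxo : orderOf x = q + 1 := by
    rw [hx, orderOf_pow_of_dvd (Nat.div_pos (Nat.le_of_dvd (orderOf_pos _) hd1) (by omega)).ne'
      (Nat.div_dvd_of_dvd hd1), Nat.div_div_self hd1 (orderOf_pos _).ne']
  have hodd : Odd (q + 1) := by
    obtain ⟨n, hn, hq⟩ := h.act.pow
    exact (hq ▸ Nat.even_pow.2 ⟨even_two, by omega⟩ : Even q).add_one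
  -- the subgroup of order `|D₀|` of the cyclic group it generates
  set e := (q + 1) / Nat.card D0 with he
  have he0 : e ≠ 0 := (Nat.div_pos (Nat.le_of_dvd (by omega) hdvd) Nat.card_pos).ne'
  set A : Subgroup G := (Subgroup.zpowers (x ^ e)).map C.subtype with hA
  have hAcard : Nat.card A = Nat.card D0 := by
    rw [hA, Subgroup.card_map_of_injective C.subtype_injective, Nat.card_zpowers,
      orderOf_pow_of_dvd he0 (hxo ▸ Nat.div_dvd_of_dvd hdvd), hxo, he,
      Nat.div_div_self hdvd (by omega)]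
  have hAC : A ≤ C := Subgroup.map_subtype_le _
  have hinjK : ∀ y : C, y ∈ K → Odd (orderOf y) → y = 1 := by
    intro y hy ho
    have h1 : (y : G) ∈ S := hKS ▸ ⟨y, hy, rfl⟩
    obtain ⟨j, hj⟩ := IsPGroup.iff_orderOf.1 h.isPGroup ⟨(y : G), h1⟩
    rw [Subgroup.orderOf_mk, Subgroup.orderOf_coe] at hj
    rcases j with _ | j
    · exact orderOf_eq_one_iff.1 (by simpa using hj)
    · exact absurd (hj ▸ dvd_pow_self 2 j.succ_ne_zero : 2 ∣ orderOf y) ho.not_two_dvd_nat
  have horb : ∀ g ∈ A, ∃ k ∈ S, k • b = g • b := by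
    intro g hg
    obtain ⟨g', hg', rfl⟩ := hg
    have hinjD : Function.Injective ((QuotientGroup.mk' K).comp (Subgroup.inclusion (inf_le_right : D0 ≤ C))) := by
      refine (injective_iff_map_eq_one _).2 fun y hy => Subtype.ext ?_
      have h1 : Subgroup.inclusion (inf_le_right : D0 ≤ C) y ∈ K := (QuotientGroup.eq_one_iff _).1 hy
      exact h.eq_one_of_fix hb (hKS ▸ ⟨_, h1, rfl⟩) (mem_two_iff.1 y.2.1).2
    have := hcyc
    have heq : (Subgroup.zpowers (x ^ e)).map (QuotientGroup.mk' K) =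
        ((QuotientGroup.mk' K).comp (Subgroup.inclusion (inf_le_right : D0 ≤ C))).range := by
      refine eq_of_card_eq_cyclic' ?_
      rw [← Nat.card_congr (MonoidHom.ofInjective hinjD).toEquiv, ← hAcard, hA,
        Subgroup.card_map_of_injective C.subtype_injective, MonoidHom.map_zpowers, Nat.card_zpowers,
        Nat.card_zpowers]
      refine Nat.dvd_antisymm (orderOf_map_dvd _ _) (orderOf_dvd_of_pow_eq_one (hinjK _ ?_ ?_))
      · rw [← QuotientGroup.eq_one_iff, QuotientGroup.mk_pow]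
        exact pow_orderOf_eq_one _
      · refine Odd.of_dvd_nat hodd ?_
        rw [← hxo, ← pow_mul]
        exact (orderOf_pow_dvd _)
    obtain ⟨d, hd⟩ : QuotientGroup.mk' K g' ∈
        ((QuotientGroup.mk' K).comp (Subgroup.inclusion (inf_le_right : D0 ≤ C))).range :=
      heq ▸ Subgroup.mem_map_of_mem _ hg'
    have hk : g' * (Subgroup.inclusion (inf_le_right : D0 ≤ C) d)⁻¹ ∈ K := by
      rw [← QuotientGroup.eq_one_iff, QuotientGroup.mk_mul, QuotientGroup.mk_inv, mul_inv_eq_one]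
      exact hd.symm
    refine ⟨(g' : G) * (d : G)⁻¹, hKS ▸ ⟨_, hk, rfl⟩, ?_⟩
    have hdb : (d : G)⁻¹ • b = b := inv_smul_eq_iff.2 (mem_two_iff.1 d.2.1).2.symm
    show ((g' : G) * (d : G)⁻¹) • b = (g' : G) • b
    rw [mul_smul, hdb]
  have hCS : C ≤ Subgroup.normalizer (S : Set G) := fun g hg =>
    CfsgLib.Coprime.mem_normalizer_of_forall_conj fun y hy =>
      h.conj_mem g (h.act.stab_of_commute hs (Subgroup.mem_centralizer_singleton_iff.1 hg)) y hy
  have hDodd : Odd (Nat.card D0) := hodd.of_dvd_nat hdvd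
  obtain ⟨n, -, hn⟩ := h.act.pow
  obtain ⟨k, hkS, hk⟩ := CfsgLib.Coprime.exists_fixed_point A S (hAC.trans hCS)
    (by rw [hAcard, h.card, hn, ← pow_mul]; exact Nat.Coprime.pow_right _ hDodd.coprime_two_right)
    (Or.inl (by
      have : IsMulCommutative (Subgroup.zpowers (x ^ e)) := inferInstance
      have : IsMulCommutative A := by rw [hA]; infer_instance
      exact Group.isSolvable_of_comm fun u v => mul_comm' u v))
    b horb
  -- a conjugate of the generator centralising `D₀`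
  have hkC : k ∈ C := h.le_cent s hs hkS
  have hAD : A.map (MulAut.conj k⁻¹).toMonoidHom = D0 := by
    refine Subgroup.eq_of_le_of_card_ge ?_ (by
      rw [Subgroup.card_map_of_injective (MulAut.conj k⁻¹).injective, hAcard])
    rintro _ ⟨g, hg, rfl⟩
    have hgC := hAC hg
    have hgC' : k⁻¹ * g * k⁻¹⁻¹ ∈ C := C.mul_mem (C.mul_mem (C.inv_mem hkC) hgC) (C.inv_mem (C.inv_mem hkC))
    refine ⟨mem_two_iff.2 ⟨h.act.stab_of_commute hs (Subgroup.mem_centralizer_singleton_iff.1 hgC'), ?_⟩, hgC'⟩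
    show (k⁻¹ * g * k⁻¹⁻¹) • b = b
    rw [inv_inv, mul_smul, mul_smul, hk g hg, inv_smul_smul]
  set y : G := k⁻¹ * (x : G) * k with hy
  have hyC : y ∈ C := C.mul_mem (C.mul_mem (C.inv_mem hkC) x.2) hkC
  have hyo : orderOf y = q + 1 := by
    rw [hy]
    simpa [Subgroup.orderOf_coe, hxo] using orderOf_conj_eq k⁻¹ (x : G)
  have hyD : ∀ d ∈ D0, Commute y d := by
    intro d hd
    rw [← hAD] at hd
    obtain ⟨_, ⟨w, hw, rfl⟩, rfl⟩ := hd
    obtain ⟨i, rfl⟩ := Subgroup.mem_zpowers_iff.1 hw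
    have hc : Commute (x : G) (((x ^ e) ^ i : C) : G) := by
      have : Commute x ((x ^ e) ^ i) := ((Commute.refl x).pow_right e).zpow_right i
      exact congrArg Subtype.val this
    have h2 := hc.map (MulAut.conj k⁻¹).toMonoidHom
    simpa [hy] using h2
  -- the rank one group on the points fixed by `D₀`
  suffices hyb : y • b = b by
    have hmem : y ∈ D0 := ⟨mem_two_iff.2
      ⟨h.act.stab_of_commute hs (Subgroup.mem_centralizer_singleton_iff.1 hyC), hyb⟩, hyC⟩
    rw [← hyo, ← Subgroup.orderOf_mk y hmem]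
    exact orderOf_dvd_natCard _
  exact h.fix_of_rankOne hb hs hyC (hyo ▸ hodd) hyD

end Point

end CfsgLib.PGUThree
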