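import Cfsg.Agent.Lib.PGUThree.Model
import Cfsg.Agent.Lib.BenderTrans.Main

/-!
A group in which every involution centraliser looks like the one of `PGU₃(q)`: each involution lies
in exactly one Sylow 2-subgroup and the Sylow normaliser is strongly embedded.
-/

set_option autoImplicit false

namespace CfsgLib.PGUThree

open CfsgLib.BenderTrans CfsgLib.Involutions MulAction

universe u

variable (G : Type u) [Group G] [Finite G] (q : ℕ)

/-- The standing hypotheses. -/
structure Hyp : Prop where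
  even : Even (Nat.card G)
  conj : ∀ s t : G, orderOf s = 2 → orderOf t = 2 → IsConj s t
  like : ∀ x : G, orderOf x = 2 → UThreeLike q (Subgroup.centralizer ({x} : Set G))
  not_normal : ∀ P : Sylow 2 G, ¬ (P : Subgroup G).Normal
  pow : ∃ n : ℕ, 2 ≤ n ∧ q = 2 ^ n

variable {G q}

omit [Finite G] in
theorem isPGroup_zpowers_invol {t : G} (ht : orderOf t = 2) : IsPGroup 2 (Subgroup.zpowers t) :=
  IsPGroup.of_card (n := 1) (by rw [Nat.card_zpowers, ht, pow_one])

omit [Finite G] in
theorem mem_conj_sylow {S : Sylow 2 G} {g x : G} : x ∈ g • S ↔ g⁻¹ * x * g ∈ S := by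
  show x ∈ ((g • S : Sylow 2 G) : Subgroup G) ↔ g⁻¹ * x * g ∈ (S : Subgroup G)
  rw [Sylow.coe_subgroup_smul, Subgroup.mem_pointwise_smul_iff_inv_smul_mem]
  simp [MulAut.smul_def]

namespace Hyp

variable (h : Hyp G q)
include h

omit [Finite G] in
theorem four_le : 4 ≤ q := by
  obtain ⟨n, hn, rfl⟩ := h.pow
  calc 4 = 2 ^ 2 := by norm_num
    _ ≤ 2 ^ n := Nat.pow_le_pow_right (by norm_num) hn

omit [Finite G] in
theorem even_q : Even q := by
  obtain ⟨n, hn, rfl⟩ := h.pow
  exact Nat.even_pow.2 ⟨even_two, by omega⟩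

omit [Finite G] in
theorem odd_succ : Odd (q + 1) := h.even_q.add_one

theorem exists_inv : ∃ t : G, orderOf t = 2 :=
  haveI : Fact (Nat.Prime 2) := ⟨Nat.prime_two⟩
  exists_prime_orderOf_dvd_card' 2 h.even.two_dvd

theorem exists_sylow_central : ∃ (z : G) (S : Sylow 2 G), orderOf z = 2 ∧ z ∈ S ∧
    (S : Subgroup G) ≤ Subgroup.centralizer ({z} : Set G) := by
  have : Fact (Nat.Prime 2) := ⟨Nat.prime_two⟩
  obtain ⟨t, ht⟩ := h.exists_inv
  obtain ⟨S, hS⟩ := (isPGroup_zpowers_invol ht).exists_le_sylow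
  have : Nontrivial (S : Subgroup G) :=
    (Subgroup.nontrivial_iff_ne_bot _).2 fun e => by
      have h1 : t = 1 := Subgroup.mem_bot.1 (e ▸ hS (Subgroup.mem_zpowers t))
      simp [h1] at ht
  have hd : 2 ∣ Nat.card (Subgroup.center (S : Subgroup G)) := by
    obtain ⟨j, hj⟩ := IsPGroup.iff_card.1 (S.2.to_subgroup (Subgroup.center (S : Subgroup G)))
    have := S.2.center_nontrivial
    rcases j with _ | j
    · rw [pow_zero] at hj
      exact absurd hj (ne_of_gt Finite.one_lt_card)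
    · exact hj ▸ dvd_pow_self 2 (Nat.succ_ne_zero j)
  obtain ⟨z, hz⟩ := exists_prime_orderOf_dvd_card' (G := Subgroup.center (S : Subgroup G)) 2 hd
  refine ⟨z.1, S, by rw [Subgroup.orderOf_coe, Subgroup.orderOf_coe, hz], z.1.2, fun s hs =>
    Subgroup.mem_centralizer_singleton_iff.2 ?_⟩
  exact congrArg Subtype.val (Subgroup.mem_center_iff.1 z.2 ⟨s, hs⟩)

theorem card_sylow (S : Sylow 2 G) : Nat.card (S : Subgroup G) = q ^ 3 := by
  have : Fact (Nat.Prime 2) := ⟨Nat.prime_two⟩
  obtain ⟨z, T, hz, -, hT⟩ := h.exists_sylow_central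
  obtain ⟨g, rfl⟩ := MulAction.exists_smul_eq G T S
  rw [← Nat.card_congr (T.equivSMul g).toEquiv]
  obtain ⟨n, -, hn⟩ := h.pow
  obtain ⟨K, -, hK, -, -⟩ := (h.like z hz).radical
  have h1 : Nat.card (T : Subgroup G) ∣ q ^ 3 := by
    have hd := Subgroup.card_dvd_of_le hT
    rw [(h.like z hz).card] at hd
    refine Nat.Coprime.dvd_of_dvd_mul_right ?_ hd
    obtain ⟨k, hk⟩ := IsPGroup.iff_card.1 T.2
    rw [hk]
    exact Nat.Coprime.pow_left k h.odd_succ.coprime_two_left
  refine Nat.dvd_antisymm h1 ?_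
  have hP : IsPGroup 2 (K.map (Subgroup.centralizer ({z} : Set G)).subtype) :=
    IsPGroup.of_card (n := n * 3) (by
      rw [Subgroup.card_map_of_injective (Subgroup.subtype_injective _), hK, hn, pow_mul])
  obtain ⟨U, hU⟩ := hP.exists_le_sylow
  have h2 := Subgroup.card_dvd_of_le hU
  rw [Subgroup.card_map_of_injective (Subgroup.subtype_injective _), hK] at h2
  obtain ⟨g', rfl⟩ := MulAction.exists_smul_eq G T U
  rwa [← Nat.card_congr (T.equivSMul g').toEquiv] at h2

/-- The centraliser of an involution contains exactly one Sylow 2-subgroup, which contains every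
2-element of it. -/
theorem exists_sylow_of {x : G} (hx : orderOf x = 2) :
    ∃ S : Sylow 2 G, (S : Subgroup G) ≤ Subgroup.centralizer ({x} : Set G) ∧
      Subgroup.centralizer ({x} : Set G) ≤ Subgroup.normalizer ((S : Subgroup G) : Set G) ∧
      ∀ D : Subgroup G, IsPGroup 2 D → D ≤ Subgroup.centralizer ({x} : Set G) → D ≤ S := by
  have : Fact (Nat.Prime 2) := ⟨Nat.prime_two⟩
  obtain ⟨n, -, hn⟩ := h.pow
  obtain ⟨K, hKn, hK, -, -⟩ := (h.like x hx).radical
  have hP : IsPGroup 2 K := IsPGroup.of_card (n := n * 3) (by rw [hK, hn, pow_mul])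
  have hidx : ¬ 2 ∣ K.index := by
    have h1 := K.card_mul_index
    rw [hK, (h.like x hx).card] at h1
    rw [Nat.eq_of_mul_eq_mul_left (by have := h.four_le; positivity) h1]
    exact h.odd_succ.not_two_dvd_nat
  obtain ⟨S, hS⟩ := (hP.map (Subgroup.centralizer ({x} : Set G)).subtype).exists_le_sylow
  have hSK : (S : Subgroup G) = K.map (Subgroup.centralizer ({x} : Set G)).subtype := (Subgroup.eq_of_le_of_card_ge hS (by
    rw [h.card_sylow S, Subgroup.card_map_of_injective (Subgroup.centralizer ({x} : Set G)).subtype_injective, hK])).symm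
  refine ⟨S, hSK.le.trans (Subgroup.map_subtype_le _), fun c hc => ?_, fun D hD hDC => ?_⟩
  · refine CfsgLib.Coprime.mem_normalizer_of_forall_conj fun s hs => ?_
    rw [hSK] at hs ⊢
    obtain ⟨k, hk, rfl⟩ := hs
    exact ⟨⟨c, hc⟩ * k * ⟨c, hc⟩⁻¹, hKn.conj_mem k hk _, rfl⟩
  · have h2 : D.subgroupOf (Subgroup.centralizer ({x} : Set G)) ≤ K := by
      obtain ⟨P, hP'⟩ := (hD.comap_subtype (K := (Subgroup.centralizer ({x} : Set G)))).exists_le_sylow
      refine hP'.trans (le_of_eq ?_)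
      obtain ⟨g, hg⟩ := MulAction.exists_smul_eq (Subgroup.centralizer ({x} : Set G)) (hP.toSylow hidx) P
      have := hKn
      rw [← hg, Sylow.coe_subgroup_smul, IsPGroup.toSylow_coe, Subgroup.Normal.conj_smul_eq_self g K]
    intro d hd
    rw [hSK]
    exact ⟨⟨d, hDC hd⟩, h2 hd, rfl⟩

/-- Commuting involutions have the same centraliser. -/
theorem centralizer_eq {x y : G} (hx : orderOf x = 2) (hy : orderOf y = 2) (hxy : Commute x y) :
    Subgroup.centralizer ({x} : Set G) = Subgroup.centralizer ({y} : Set G) := by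
  refine Subgroup.eq_of_le_of_card_ge (fun c hc => Subgroup.mem_centralizer_singleton_iff.2 ?_)
    (by rw [(h.like x hx).card, (h.like y hy).card])
  have hyC : y ∈ Subgroup.centralizer ({x} : Set G) :=
    Subgroup.mem_centralizer_singleton_iff.2 hxy.eq.symm
  have h1 := congrArg Subtype.val ((h.like x hx).inv_central ⟨y, hyC⟩ (Subtype.ext (by
    have := pow_orderOf_eq_one y
    rwa [hy, pow_two] at this)) ⟨c, hc⟩)
  exact h1.symm

/-- A Sylow 2-subgroup is centralised by each of its involutions. -/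
theorem le_centralizer {S : Sylow 2 G} {t : G} (ht : orderOf t = 2) (htS : t ∈ S) :
    (S : Subgroup G) ≤ Subgroup.centralizer ({t} : Set G) := by
  obtain ⟨z, T, hz, hzT, hT⟩ := h.exists_sylow_central
  obtain ⟨g, rfl⟩ := MulAction.exists_smul_eq G T S
  intro x hx
  have hw : g⁻¹ * t * g ∈ T := mem_conj_sylow.1 htS
  have hs : g⁻¹ * x * g ∈ T := mem_conj_sylow.1 hx
  have hw2 : orderOf (g⁻¹ * t * g) = 2 := by simpa using (orderOf_conj_eq g⁻¹ t).trans ht
  have hc : Commute z (g⁻¹ * t * g) := (Subgroup.mem_centralizer_singleton_iff.1 (hT hw)).symm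
  have h1 := h.centralizer_eq hz hw2 hc ▸ hT hs
  rw [Subgroup.mem_centralizer_singleton_iff] at h1 ⊢
  calc x * t = g * (g⁻¹ * x * g * (g⁻¹ * t * g)) * g⁻¹ := by group
    _ = g * (g⁻¹ * t * g * (g⁻¹ * x * g)) * g⁻¹ := by rw [h1]
    _ = t * x := by group

/-- An involution lies in only one Sylow 2-subgroup. -/
theorem sylow_eq {S T : Sylow 2 G} {t : G} (ht : orderOf t = 2) (htS : t ∈ S) (htT : t ∈ T) :
    S = T := by
  obtain ⟨U, -, -, hU⟩ := h.exists_sylow_of ht
  have key : ∀ P : Sylow 2 G, t ∈ P → P = U := fun P hP => Sylow.ext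
    (Subgroup.eq_of_le_of_card_ge (hU P P.2 (h.le_centralizer ht hP))
      (by rw [h.card_sylow P, h.card_sylow U]))
  exact (key S htS).trans (key T htT).symm

theorem centralizer_le_normalizer {S : Sylow 2 G} {t : G} (ht : orderOf t = 2) (htS : t ∈ S) :
    Subgroup.centralizer ({t} : Set G) ≤ Subgroup.normalizer ((S : Subgroup G) : Set G) := by
  obtain ⟨U, hU1, hU2, hU⟩ := h.exists_sylow_of ht
  have htU : t ∈ U := hU _ (isPGroup_zpowers_invol ht)
    (Subgroup.zpowers_le.2 (Subgroup.mem_centralizer_singleton_iff.2 rfl)) (Subgroup.mem_zpowers t)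
  rwa [h.sylow_eq ht htS htU]

theorem inv_mem_sylow {S : Sylow 2 G} {t : G} (ht : orderOf t = 2)
    (htN : t ∈ Subgroup.normalizer ((S : Subgroup G) : Set G)) : t ∈ S := by
  have : Fact (Nat.Prime 2) := ⟨Nat.prime_two⟩
  have hp : IsPGroup 2 (Subgroup.zpowers t) := isPGroup_zpowers_invol ht
  have h1 : IsPGroup 2 (Subgroup.zpowers t ⊔ (S : Subgroup G) : Subgroup G) :=
    hp.to_sup_of_normal_right' S.2 (Subgroup.zpowers_le.2 htN)
  exact (le_sup_left.trans (S.3 h1 le_sup_right).le) (Subgroup.mem_zpowers t)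

theorem stronglyEmbedded (S : Sylow 2 G) :
    Cfsg.IsStronglyEmbedded (Subgroup.normalizer ((S : Subgroup G) : Set G)) := by
  rw [CfsgLib.Involutions.isStronglyEmbedded_iff]
  refine ⟨fun e => h.not_normal S (Subgroup.normalizer_eq_top_iff.1 e), ?_, fun g hg t htN ht hs => hg ?_⟩
  · have hd : 2 ∣ Nat.card (S : Subgroup G) := by
      rw [h.card_sylow S]
      exact h.even_q.two_dvd.trans (dvd_pow_self q (by norm_num))
    exact even_iff_two_dvd.2 (hd.trans (Subgroup.card_dvd_of_le Subgroup.le_normalizer))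
  · have hso : orderOf (g⁻¹ * t * g) = 2 := by
      simpa using (orderOf_conj_eq g⁻¹ t).trans ht
    have htg : t ∈ g • S := mem_conj_sylow.2 (h.inv_mem_sylow hso hs)
    exact Sylow.smul_eq_iff_mem_normalizer.1 (h.sylow_eq ht htg (h.inv_mem_sylow ht htN))

/-- The number of involutions of a Sylow 2-subgroup. -/
theorem card_invols (S : Sylow 2 G) : {t : G | orderOf t = 2 ∧ t ∈ S}.ncard = q - 1 := by
  classical
  have : Fact (Nat.Prime 2) := ⟨Nat.prime_two⟩
  obtain ⟨z, T, hz, hzT, hT⟩ := h.exists_sylow_central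
  obtain ⟨g, rfl⟩ := MulAction.exists_smul_eq G T S
  set C := Subgroup.centralizer ({z} : Set G) with hC
  obtain ⟨U, -, -, hU⟩ := h.exists_sylow_of hz
  have hUT : U = T := h.sylow_eq hz (hU _ (isPGroup_zpowers_invol hz)
    (Subgroup.zpowers_le.2 (Subgroup.mem_centralizer_singleton_iff.2 rfl)) (Subgroup.mem_zpowers z)) hzT
  have h1 : {t : G | orderOf t = 2 ∧ t ∈ T}.ncard = q - 1 := by
    have h2 : Subtype.val '' ({x : C | x * x = 1} \ {1}) = {t : G | orderOf t = 2 ∧ t ∈ T} := by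
      ext t
      constructor
      · rintro ⟨x, ⟨hx, hx1⟩, rfl⟩
        have ho : orderOf (x : G) = 2 := by
          rw [Subgroup.orderOf_coe]
          exact orderOf_eq_prime (by rw [pow_two]; exact hx) hx1
        exact ⟨ho, hUT ▸ hU _ (isPGroup_zpowers_invol ho) (Subgroup.zpowers_le.2 x.2)
          (Subgroup.mem_zpowers _)⟩
      · rintro ⟨ho, htT⟩
        refine ⟨⟨t, hT htT⟩, ⟨Subtype.ext ?_, fun e => ?_⟩, rfl⟩
        · have := pow_orderOf_eq_one t
          rwa [ho, pow_two] at this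
        · have := congrArg Subtype.val (Set.mem_singleton_iff.1 e)
          simp only [Subgroup.coe_one] at this
          simp [this] at ho
    rw [← h2, Set.ncard_image_of_injective _ Subtype.val_injective,
      Set.ncard_sdiff_singleton_of_mem (by simp), ← Nat.card_coe_set_eq]
    exact congrArg (· - 1) (h.like z hz).card_inv
  rw [← h1]
  have hf : ∀ t, t ∈ {t : G | orderOf t = 2 ∧ t ∈ T} → g * t * g⁻¹ ∈ {t : G | orderOf t = 2 ∧ t ∈ g • T} :=
    fun t ht => ⟨(orderOf_conj_eq g t).trans ht.1, mem_conj_sylow.2 (by simpa [mul_assoc] using ht.2)⟩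
  refine (Set.ncard_congr (fun t _ => g * t * g⁻¹) hf (fun a b _ _ e => by simpa using e)
    fun b hb => ⟨g⁻¹ * b * g, ⟨?_, mem_conj_sylow.1 hb.2⟩, by group⟩).symm
  simpa using (orderOf_conj_eq g⁻¹ b).trans hb.1

theorem hasFour : HasFour G := by
  obtain ⟨z, S, hz, hzS, -⟩ := h.exists_sylow_central
  have h1 := h.card_invols S
  have h4 := h.four_le
  obtain ⟨t, ht, hne⟩ := Set.exists_ne_of_one_lt_ncard
    (s := {t : G | orderOf t = 2 ∧ t ∈ S}) (by omega) z
  exact ⟨z, t, hz, ht.1, hne.symm,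
    Subgroup.mem_centralizer_singleton_iff.1 (h.le_centralizer ht.1 ht.2 hzS)⟩

end Hyp

end CfsgLib.PGUThree
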